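import Cfsg.Agent.H67.Held.Outer

/-!
The outer involution in the three completion cases.
-/

set_option autoImplicit false
set_option maxRecDepth 100000

namespace Cfsg.Agent.H67.Held

open Cfsg.Agent.H98.Held Cfsg.Agent.H95.Held

/-- the data of the case of mask 7 -/
def odata7 : OData where
  fA := [32, 16, 8, 4, 2, 1]
  fB := [16, 8, 32, 2, 1, 4]
  fl := [0, 32, 8, 40, 16, 48, 24, 56, 2, 34, 10, 42, 18, 50, 26, 58,
    4, 36, 12, 44, 20, 52, 28, 60, 6, 38, 14, 46, 22, 54, 30, 62,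
    1, 33, 9, 41, 17, 49, 25, 57, 3, 35, 11, 43, 19, 51, 27, 59,
    5, 37, 13, 45, 21, 53, 29, 61, 7, 39, 15, 47, 23, 55, 31, 63]
  e := 1
  b0 := 0
  ww := [([0, 1, 2, 0, 1, 2], [0, 2, 0, 1, 3, 2, 3, 1]),
    ([1, 0, 3, 0, 3, 1], [1, 3, 2, 3, 1, 3, 2, 3]),
    ([0, 1, 0, 1], [0, 3, 1, 0, 3, 2, 3, 1, 3]),
    ([1, 3, 2, 3, 1, 3, 2, 3], [1, 0, 3, 0, 3, 1]),
    ([0, 3, 1, 0, 3, 2, 3, 1, 3], [0, 1, 0, 1]),
    ([0, 2, 0, 1, 3, 2, 3, 1], [0, 1, 2, 0, 1, 2])]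
  sel := [[6, 6], [0, 3, 2, 6, 0, 3, 6], [0, 1, 0, 3, 6, 3, 1, 6, 1, 0, 6]]

theorem odata7_ok : odata7.ok L52.spec Z21 Z21 = true := by decide +kernel

theorem odata7_pins : odata7.pins L52.spec = true := by decide +kernel

/-- the data of the case of mask 23 -/
def odata23 : OData where
  fA := [32, 16, 8, 4, 2, 1]
  fB := [16, 8, 51, 2, 1, 29]
  fl := [0, 32, 8, 40, 51, 19, 59, 27, 2, 34, 10, 42, 49, 17, 57, 25,
    45, 13, 37, 5, 30, 62, 22, 54, 47, 15, 39, 7, 28, 60, 20, 52,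
    1, 33, 9, 41, 50, 18, 58, 26, 3, 35, 11, 43, 48, 16, 56, 24,
    44, 12, 36, 4, 31, 63, 23, 55, 46, 14, 38, 6, 29, 61, 21, 53]
  e := 1
  b0 := 10
  ww := [([0, 1, 2, 0, 1, 2], [0, 2, 0, 1, 3, 2, 3, 1]),
    ([1, 0, 3, 0, 3, 1], [1, 3, 2, 3, 1, 3, 2, 3]),
    ([0, 1, 0, 1], [0, 3, 0, 2, 3]),
    ([1, 3, 2, 3, 1, 3, 2, 3], [1, 0, 3, 0, 3, 1]),
    ([0, 3, 1, 0, 3, 2, 3, 1, 3], [2, 3, 2, 3]),
    ([0, 2, 0, 1, 3, 2, 3, 1], [0, 1, 2, 0, 1, 2])]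
  sel := [[6, 6], [2, 3, 2, 6, 2, 0, 2, 3, 6, 0], [3, 1, 6, 1, 6, 0, 6, 1, 6, 1]]

theorem odata23_ok : odata23.ok M24.spec Z21 Z45 = true := by decide +kernel

theorem odata23_pins : odata23.pins M24.spec = true := by decide +kernel

/-- the data of the case of mask 31 -/
def odata31 : OData where
  fA := [32, 29, 8, 4, 46, 1]
  fB := [16, 8, 51, 2, 1, 29]
  fl := [0, 32, 8, 40, 51, 19, 59, 27, 2, 34, 10, 42, 49, 17, 57, 25,
    45, 13, 37, 5, 30, 62, 22, 54, 47, 15, 39, 7, 28, 60, 20, 52,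
    1, 33, 9, 41, 50, 18, 58, 26, 3, 35, 11, 43, 48, 16, 56, 24,
    44, 12, 36, 4, 31, 63, 23, 55, 46, 14, 38, 6, 29, 61, 21, 53]
  e := 1
  b0 := 0
  ww := [([0, 2, 1, 3, 1, 2, 0, 2, 1, 3, 1, 2], [0, 1, 2, 1, 2, 0]),
    ([0, 1, 2, 1, 3, 1, 2, 0, 1, 3], [0, 2, 1, 2, 0, 2, 1, 2]),
    ([0, 2, 3, 1, 2, 0, 2, 3, 1, 2], [0, 2, 3, 1, 2, 0, 1, 2, 3, 1, 2]),
    ([0, 2, 1, 2, 0, 2, 1, 2], [0, 1, 2, 1, 3, 1, 2, 0, 1, 3]),
    ([0, 2, 1, 3, 1, 2, 0, 2, 1, 2, 3], [2, 0, 2, 1, 2, 0, 3, 1, 2, 3]),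
    ([0, 1, 2, 1, 2, 0], [0, 2, 1, 3, 1, 2, 0, 2, 1, 3, 1, 2])]
  sel := [[5, 5], [5, 0, 5, 3, 5, 0, 5, 3], [2, 3, 5, 2, 5, 0, 3, 5, 2, 5, 2, 0]]

theorem odata31_ok : odata31.ok He.spec Z45 Z45 = true := by decide +kernel

theorem odata31_pins : odata31.pins He.spec = true := by decide +kernel

universe u

variable {G : Type u} [Group G] [Finite G] {B : Emb G}

/-- the outer involution of the case of mask 7 -/
theorem outer_L52 (hm : ∀ k < 8, B.IsZ (rep k) ↔ inK 7 k = true) :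
    ∃ g, Nonempty (Outer B L52.spec g) := by
  obtain ⟨CA⟩ := complA_7 hm
  obtain ⟨CB⟩ := complB_7 hm
  exact exists_outer L52.spec_ok odata7 odata7_ok odata7_pins CA CB

/-- the outer involution of the case of mask 23 -/
theorem outer_M24 (hm : ∀ k < 8, B.IsZ (rep k) ↔ inK 23 k = true) :
    ∃ g, Nonempty (Outer B M24.spec g) := by
  obtain ⟨CA⟩ := complA_23 hm
  obtain ⟨CB⟩ := complB_23 hm
  exact exists_outer M24.spec_ok odata23 odata23_ok odata23_pins CA CB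

/-- the outer involution of the case of mask 31 -/
theorem outer_He (hm : ∀ k < 8, B.IsZ (rep k) ↔ inK 31 k = true) :
    ∃ g, Nonempty (Outer B He.spec g) := by
  obtain ⟨CA⟩ := complA_31 hm
  obtain ⟨CB⟩ := complB_31 hm
  exact exists_outer He.spec_ok odata31 odata31_ok odata31_pins CA CB

end Cfsg.Agent.H67.Held
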