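import Mathlib

/-!
Finite fusion checks for the two self-centralising elementary abelian subgroups of order 64 in the
centraliser `C` of a transvection `I + E01` in `SL(5,2)`.

Coordinates: an element of the first subgroup is the code of the entries
`(0,1) (0,3) (0,4) (2,1) (2,3) (2,4)` of `g - 1`, of the second of the entries
`(0,1) (2,1) (3,1) (0,4) (2,4) (3,4)`, entry number `i` being bit `i`; the transvection has code 1.
-/

set_option autoImplicit false

namespace Cfsg.Agent.H67.Held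

/-- an additive permutation of the codes mapping a set into itself -/
structure LinAut (Z : List ℕ) (f : ℕ → ℕ) : Prop where
  lt : ∀ x < 64, f x < 64
  add : ∀ x < 64, ∀ y < 64, f (x ^^^ y) = f x ^^^ f y
  inj : ∀ x < 64, ∀ y < 64, f x = f y → x = y
  mem : ∀ x ∈ Z, f x ∈ Z

/-- the number of members of `Z` whose sum with `u` is in `Z` -/
def deg (Z : List ℕ) (u : ℕ) : ℕ := (Z.toFinset.filter fun x => u ^^^ x ∈ Z).card

theorem xor_lt {x y : ℕ} (hx : x < 64) (hy : y < 64) : x ^^^ y < 64 :=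
  Nat.xor_lt_two_pow (n := 6) hx hy

section Sound

variable {Z : List ℕ} {f : ℕ → ℕ} (hZ : ∀ x ∈ Z, x < 64) (hf : LinAut Z f)

include hZ hf in
theorem LinAut.image_eq : Z.toFinset.image f = Z.toFinset := by
  refine Finset.eq_of_subset_of_card_le (fun y hy => ?_) ?_
  · obtain ⟨x, hx, rfl⟩ := Finset.mem_image.1 hy
    exact List.mem_toFinset.2 (hf.mem x (List.mem_toFinset.1 hx))
  · rw [Finset.card_image_of_injOn]
    intro x hx y hy h
    exact hf.inj x (hZ x (List.mem_toFinset.1 hx)) y (hZ y (List.mem_toFinset.1 hy)) h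

include hZ hf in
theorem LinAut.mem_iff {x : ℕ} (hx : x < 64) : f x ∈ Z ↔ x ∈ Z := by
  refine ⟨fun h => ?_, hf.mem x⟩
  rw [← List.mem_toFinset, ← hf.image_eq hZ, Finset.mem_image] at h
  obtain ⟨y, hy, hyx⟩ := h
  rw [List.mem_toFinset] at hy
  exact hf.inj y (hZ y hy) x hx hyx ▸ hy

include hZ hf in
theorem LinAut.deg_eq {u : ℕ} (hu : u < 64) : deg Z (f u) = deg Z u := by
  have h : (Z.toFinset.filter fun x => f u ^^^ x ∈ Z) =
      (Z.toFinset.filter fun x => u ^^^ x ∈ Z).image f := by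
    ext y
    simp only [Finset.mem_filter, Finset.mem_image]
    constructor
    · rintro ⟨hy, hy'⟩
      rw [← hf.image_eq hZ, Finset.mem_image] at hy
      obtain ⟨x, hx, rfl⟩ := hy
      have hx' := hZ x (List.mem_toFinset.1 hx)
      rw [← hf.add u hu x hx', hf.mem_iff hZ (xor_lt hu hx')] at hy'
      exact ⟨x, ⟨hx, hy'⟩, rfl⟩
    · rintro ⟨x, ⟨hx, hx'⟩, rfl⟩
      refine ⟨List.mem_toFinset.2 (hf.mem x (List.mem_toFinset.1 hx)), ?_⟩
      rw [← hf.add u hu x (hZ x (List.mem_toFinset.1 hx))]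
      exact hf.mem _ hx'
  rw [deg, deg, h, Finset.card_image_of_injOn]
  intro x hx y hy e
  simp only [Finset.coe_filter, List.mem_toFinset, Set.mem_setOf_eq] at hx hy
  exact hf.inj x (hZ x hx.1) y (hZ y hy.1) e

include hZ in
/-- a set with non-constant degree is not transitive -/
theorem not_transitive {u : ℕ} (hu : u ∈ Z) (h1 : 1 < 64) (hne : deg Z u ≠ deg Z 1) :
    ¬ ∀ v ∈ Z, ∃ f, LinAut Z f ∧ f 1 = v := by
  intro h
  obtain ⟨f, hf, hfu⟩ := h u hu
  exact hne (hfu ▸ hf.deg_eq hZ h1)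

end Sound

/-! ### the enumeration of the stabiliser of the code `1` -/

/-- the values below `n` packed in lanes of eight bits -/
def pack : ℕ → (ℕ → ℕ) → ℕ
  | 0, _ => 0
  | n + 1, g => g 0 + 256 * pack n fun d => g (d + 1)

/-- a lane -/
def get (s d : ℕ) : ℕ := s / 256 ^ d % 256

theorem get_pack : ∀ {n : ℕ} {g : ℕ → ℕ}, (∀ d < n, g d < 256) → ∀ {d}, d < n →
    get (pack n g) d = g d := by
  intro n
  induction n with
  | zero => intro g _ d hd; omega
  | succ n ih =>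
    intro g hg d hd
    cases d with
    | zero => simp [get, pack, Nat.add_mul_mod_self_left, Nat.mod_eq_of_lt (hg 0 hd)]
    | succ d =>
      rw [get, pack, pow_succ', ← Nat.div_div_eq_div_mul, Nat.add_mul_div_left _ _ (by norm_num),
        Nat.div_eq_of_lt (hg 0 (Nat.succ_pos n)), zero_add]
      exact ih (g := fun d => g (d + 1)) (fun d hd => hg (d + 1) (Nat.succ_lt_succ hd))
        (Nat.lt_of_succ_lt_succ hd)

theorem pack_congr : ∀ {n : ℕ} {g g' : ℕ → ℕ}, (∀ d < n, g d = g' d) → pack n g = pack n g' := by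
  intro n
  induction n with
  | zero => intros; rfl
  | succ n ih =>
    intro g g' h
    rw [pack, pack, h 0 (Nat.succ_pos n), ih fun d hd => h (d + 1) (Nat.succ_lt_succ hd)]

/-- the set of a list as bits -/
def maskOf : List ℕ → ℕ
  | [] => 0
  | x :: l => 2 ^ x ||| maskOf l

theorem testBit_maskOf : ∀ (l : List ℕ) (x : ℕ), (maskOf l).testBit x = true ↔ x ∈ l
  | [], x => by simp [maskOf]
  | y :: l, x => by
    rw [maskOf, Nat.testBit_or, Bool.or_eq_true, testBit_maskOf l x, Nat.testBit_two_pow,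
      decide_eq_true_iff, List.mem_cons, eq_comm]

/-- evaluate the argument first -/
def force {α : Type} (x : ℕ) (f : ℕ → α) : α :=
  match x with
  | 0 => f 0
  | m + 1 => f (m + 1)

theorem force_eq {α : Type} (x : ℕ) (f : ℕ → α) : force x f = f x := by
  cases x <;> rfl

/-- extensions of packed values on codes below `2 ^ i` to codes below `2 ^ (i + 1)` -/
def step (Z : List ℕ) (M i : ℕ) : List ℕ → List ℕ
  | [] => []
  | s :: L => force s fun s =>
    ((Z.filter fun u => (List.range (2 ^ i)).all fun d =>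
      !Nat.beq (get s d) u &&
        (M.testBit (d ^^^ 2 ^ i) == M.testBit (get s d ^^^ u))).map
      fun u => pack (2 ^ (i + 1)) fun d =>
        if d < 2 ^ i then get s d else get s (d - 2 ^ i) ^^^ u) ++ step Z M i L

theorem mem_step {Z : List ℕ} {M i t : ℕ} : ∀ {L : List ℕ} {s : ℕ}, s ∈ L → ∀ {u : ℕ}, u ∈ Z →
    ((List.range (2 ^ i)).all fun d => !Nat.beq (get s d) u &&
      (M.testBit (d ^^^ 2 ^ i) == M.testBit (get s d ^^^ u))) = true →
    t = (pack (2 ^ (i + 1)) fun d => if d < 2 ^ i then get s d else get s (d - 2 ^ i) ^^^ u) →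
    t ∈ step Z M i L
  | x :: L, s, hs, u, hu, hc, ht => by
    rw [step, force_eq, List.mem_append]
    rcases List.mem_cons.1 hs with rfl | hs
    · exact Or.inl (List.mem_map.2 ⟨u, List.mem_filter.2 ⟨hu, hc⟩, ht.symm⟩)
    · exact Or.inr (mem_step hs hu hc ht)

/-- the candidates fixing `1`, packed on codes below `2 ^ (i + 1)` -/
def level (Z : List ℕ) : ℕ → List ℕ
  | 0 => [256]
  | i + 1 => force (maskOf Z) fun M => step Z M (i + 1) (level Z i)

theorem two_pow_add_eq_xor {i d : ℕ} (hd : d < 2 ^ i) : 2 ^ i + d = d ^^^ 2 ^ i := by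
  refine Nat.eq_of_testBit_eq fun k => ?_
  rw [Nat.testBit_xor]
  rcases lt_trichotomy k i with hk | hk | hk
  · rw [Nat.testBit_two_pow_add_gt hk, Nat.testBit_two_pow_of_ne (by omega)]; simp
  · subst hk
    rw [Nat.testBit_two_pow_add_eq, Nat.testBit_two_pow_self, Nat.testBit_lt_two_pow hd]
    rfl
  · have h1 : 2 ^ i + d < 2 ^ k :=
      lt_of_lt_of_le (by rw [pow_succ]; omega : 2 ^ i + d < 2 ^ (i + 1))
        (Nat.pow_le_pow_right (by norm_num) hk)
    rw [Nat.testBit_lt_two_pow h1, Nat.testBit_two_pow_of_ne (by omega),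
      Nat.testBit_lt_two_pow (lt_of_le_of_lt (Nat.le_add_left d _) h1)]
    rfl

/-- every automorphism of `Z` fixing `1` is enumerated -/
theorem level_spec {Z : List ℕ} {f : ℕ → ℕ} (hZ : ∀ x ∈ Z, x < 64) (hf : LinAut Z f)
    (h1 : f 1 = 1) (hb : ∀ i < 6, 2 ^ i ∈ Z) :
    ∀ i < 6, pack (2 ^ (i + 1)) f ∈ level Z i := by
  intro i
  induction i with
  | zero =>
    intro _
    have h0 := hf.add 0 (by norm_num) 0 (by norm_num)
    simp only [Nat.xor_self] at h0
    simp [level, pack, h0, h1]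
  | succ i ih =>
    intro hi
    have hp : 2 ^ (i + 1) < 64 :=
      lt_of_lt_of_eq (Nat.pow_lt_pow_right (by norm_num) hi) (by norm_num)
    have hd64 : ∀ d < 2 ^ (i + 1), d < 64 := fun d hd => hd.trans hp
    have hg : ∀ d < 2 ^ (i + 1), get (pack (2 ^ (i + 1)) f) d = f d := fun d hd =>
      get_pack (fun e he => (hf.lt e (hd64 e he)).trans (by norm_num)) hd
    rw [level, force_eq]
    refine mem_step (ih (by omega)) (u := f (2 ^ (i + 1))) (hf.mem _ (hb _ hi)) ?_ ?_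
    · rw [List.all_eq_true]
      intro d hd
      rw [List.mem_range] at hd
      rw [hg d hd, Bool.and_eq_true, Bool.not_eq_true', beq_iff_eq]
      refine ⟨?_, ?_⟩
      · rw [Bool.eq_false_iff]
        intro e
        exact Nat.ne_of_lt hd (hf.inj d (hd64 d hd) _ hp (Nat.beq_eq ▸ e))
      · rw [← hf.add d (hd64 d hd) _ hp, Bool.eq_iff_iff, testBit_maskOf,
          testBit_maskOf, hf.mem_iff hZ (xor_lt (hd64 d hd) hp)]
    · refine pack_congr fun d hd => ?_
      by_cases h : d < 2 ^ (i + 1)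
      · rw [if_pos h, hg d h]
      · have hk : d - 2 ^ (i + 1) < 2 ^ (i + 1) := by rw [pow_succ 2 (i + 1)] at hd; omega
        rw [if_neg h, hg _ hk, ← hf.add _ (hd64 _ hk) _ hp, ← two_pow_add_eq_xor hk,
          Nat.add_sub_cancel' (not_lt.1 h)]

/-- a value selected by a bit -/
def sel (b : Bool) (v : ℕ) : ℕ := cond b v 0

theorem sel_xor (a b : Bool) (v : ℕ) : sel (a ^^ b) v = sel a v ^^^ sel b v := by
  cases a <;> cases b <;> simp [sel]

theorem sel_lt {b : Bool} {v : ℕ} (h : v < 64) : sel b v < 64 := by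
  cases b <;> simp [sel, h]

/-- the linear map with given values on the unit codes -/
def lin (imgs : List ℕ) (x : ℕ) : ℕ :=
  sel (x.testBit 0) (imgs.getD 0 0) ^^^ (sel (x.testBit 1) (imgs.getD 1 0) ^^^
    (sel (x.testBit 2) (imgs.getD 2 0) ^^^ (sel (x.testBit 3) (imgs.getD 3 0) ^^^
      (sel (x.testBit 4) (imgs.getD 4 0) ^^^ sel (x.testBit 5) (imgs.getD 5 0)))))

theorem lin_add (imgs : List ℕ) (x y : ℕ) : lin imgs (x ^^^ y) = lin imgs x ^^^ lin imgs y := by
  simp only [lin, Nat.testBit_xor, sel_xor]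
  ac_rfl

/-- the check of an automorphism given by six values -/
def linOK (Z imgs : List ℕ) : Bool :=
  imgs.all (fun v => Nat.blt v 64) &&
    (List.range 64).all (fun x => Nat.beq x 0 || !Nat.beq (lin imgs x) 0) &&
    Z.all fun x => Z.contains (lin imgs x)

theorem linOK_sound {Z imgs : List ℕ} (h : linOK Z imgs = true) : LinAut Z (lin imgs) := by
  simp only [linOK, Bool.and_eq_true, List.all_eq_true, List.mem_range, Nat.blt_eq,
    Bool.or_eq_true, List.contains_iff_mem, Bool.not_eq_true', Nat.beq_eq] at h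
  obtain ⟨⟨h0, h1⟩, h2⟩ := h
  have hv : ∀ i, imgs.getD i 0 < 64 := fun i => by
    rcases Nat.lt_or_ge i imgs.length with hi | hi
    · rw [List.getD_eq_getElem _ _ hi]; exact h0 _ (List.getElem_mem hi)
    · simp [List.getD_eq_getElem?_getD, List.getElem?_eq_none hi]
  refine ⟨fun x _ => ?_, fun x _ y _ => lin_add imgs x y, fun x hx y hy e => ?_, h2⟩
  · exact xor_lt (sel_lt (hv 0)) (xor_lt (sel_lt (hv 1)) (xor_lt (sel_lt (hv 2))
      (xor_lt (sel_lt (hv 3)) (xor_lt (sel_lt (hv 4)) (sel_lt (hv 5))))))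
  · rcases h1 _ (xor_lt hx hy) with h | h
    · exact Nat.xor_eq_zero_iff.1 h
    · rw [lin_add, e, Nat.xor_self] at h
      exact absurd h (by simp)

/-! ### data -/

/-- codes in the first subgroup of the eight classes of involutions of `C` (numbered as in `H98.Held`) -/
def clsA1 : List (List ℕ) := [
  [1],
  [2, 3, 4, 5, 6, 7],
  [8, 9],
  [16, 18, 24, 27, 32, 36, 40, 45, 48, 54, 56, 63],
  [10, 11, 12, 13, 14, 15],
  [17, 19, 25, 26, 33, 37, 41, 44, 49, 55, 57, 62],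
  [20, 21, 22, 23, 28, 29, 30, 31, 34, 35, 38, 39, 42, 43, 46, 47, 50, 51, 52, 53, 58, 59, 60, 61],
  []]

/-- codes in the second subgroup of the eight classes of involutions of `C` (numbered as in `H98.Held`) -/
def clsA2 : List (List ℕ) := [
  [1],
  [8, 9],
  [2, 3, 4, 5, 6, 7],
  [16, 18, 24, 27, 32, 36, 40, 45, 48, 54, 56, 63],
  [10, 11, 12, 13, 14, 15],
  [17, 19, 25, 26, 33, 37, 41, 44, 49, 55, 57, 62],
  [],
  [20, 21, 22, 23, 28, 29, 30, 31, 34, 35, 38, 39, 42, 43, 46, 47, 50, 51, 52, 53, 58, 59, 60, 61]]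

/-- the orbit of length 21 -/
def Z21 : List ℕ := [1, 2, 3, 4, 5, 6, 7, 8, 9, 16, 18, 24, 27, 32, 36, 40, 45, 48, 54, 56, 63]

/-- the orbit of length 45 -/
def Z45 : List ℕ := [1, 2, 3, 4, 5, 6, 7, 8, 9, 16, 18, 20, 21, 22, 23, 24, 27, 28, 29, 30, 31, 32, 34, 35, 36, 38, 39, 40, 42, 43, 45, 46, 47, 48, 50, 51, 52, 53, 54, 56, 58, 59, 60, 61, 63]

/-- automorphisms moving `1` to the members of `Z21` -/
def tr21 : List (List ℕ) := [
  [1, 2, 4, 8, 16, 32],
  [2, 1, 4, 16, 8, 32],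
  [3, 1, 4, 24, 8, 32],
  [4, 1, 2, 32, 8, 16],
  [5, 1, 2, 40, 8, 16],
  [6, 1, 2, 48, 8, 16],
  [7, 1, 2, 56, 8, 16],
  [8, 16, 32, 1, 2, 4],
  [9, 18, 36, 1, 2, 4],
  [16, 8, 32, 2, 1, 4],
  [18, 9, 36, 2, 1, 4],
  [24, 8, 32, 3, 1, 4],
  [27, 9, 36, 3, 1, 4],
  [32, 8, 16, 4, 1, 2],
  [36, 9, 18, 4, 1, 2],
  [40, 8, 16, 5, 1, 2],
  [45, 9, 18, 5, 1, 2],
  [48, 8, 16, 6, 1, 2],
  [54, 9, 18, 6, 1, 2],
  [56, 8, 16, 7, 1, 2],
  [63, 9, 18, 7, 1, 2]]

/-- automorphisms moving `1` to the members of `Z45` -/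
def tr45 : List (List ℕ) := [
  [1, 2, 4, 8, 16, 32],
  [2, 1, 28, 16, 8, 59],
  [3, 1, 20, 24, 8, 50],
  [4, 1, 42, 32, 8, 61],
  [5, 1, 34, 40, 8, 52],
  [6, 1, 58, 48, 8, 47],
  [7, 1, 50, 56, 8, 38],
  [8, 16, 32, 1, 2, 4],
  [9, 18, 36, 1, 2, 4],
  [16, 8, 35, 2, 1, 31],
  [18, 9, 39, 2, 1, 28],
  [20, 3, 40, 38, 27, 5],
  [21, 3, 32, 47, 27, 4],
  [22, 3, 45, 34, 24, 5],
  [23, 3, 36, 42, 24, 4],
  [24, 8, 34, 3, 1, 22],
  [27, 9, 38, 3, 1, 20],
  [28, 2, 40, 39, 18, 5],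
  [29, 2, 32, 46, 18, 4],
  [30, 2, 36, 43, 16, 4],
  [31, 2, 45, 35, 16, 5],
  [32, 8, 21, 4, 1, 47],
  [34, 5, 24, 22, 45, 3],
  [35, 5, 16, 31, 45, 2],
  [36, 9, 23, 4, 1, 42],
  [38, 5, 27, 20, 40, 3],
  [39, 5, 18, 28, 40, 2],
  [40, 8, 20, 5, 1, 38],
  [42, 4, 24, 23, 36, 3],
  [43, 4, 16, 30, 36, 2],
  [45, 9, 22, 5, 1, 34],
  [46, 4, 18, 29, 32, 2],
  [47, 4, 27, 21, 32, 3],
  [48, 8, 23, 6, 1, 61],
  [50, 7, 24, 20, 63, 3],
  [51, 7, 16, 29, 63, 2],
  [52, 7, 27, 22, 56, 3],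
  [53, 7, 18, 30, 56, 2],
  [54, 9, 21, 6, 1, 58],
  [56, 8, 22, 7, 1, 52],
  [58, 6, 24, 21, 54, 3],
  [59, 6, 16, 28, 54, 2],
  [60, 6, 18, 31, 48, 2],
  [61, 6, 27, 23, 48, 3],
  [63, 9, 20, 7, 1, 50]]

/-- the codes of the classes selected by bits of `m` (bit 0 is the class of the transvection) -/
def Zof (cls : List (List ℕ)) (m : ℕ) : List ℕ :=
  ((List.range 8).filter fun k => m.testBit k).flatMap fun k => cls.getD k []

/-- selections without the classes 4, 5, meeting class 1 or 2, on which the degree is constant, other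
than the two point stabiliser selections 3 and 5 -/
def goodMasks : List ℕ := [15, 143, 79, 207]

end Cfsg.Agent.H67.Held
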