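import Cfsg.Agent.H98.Held.Basic
import Cfsg.Agent.H67.Held.Lin

/-!
The action of the normaliser of a group of order 64 on its coordinates.
-/

set_option autoImplicit false

namespace Cfsg.Agent.H67.Held

open Subgroup Cfsg.Agent.H98.Held

attribute [local irreducible] mm oneC zT

/-- coordinates on a block -/
structure Coord (L : List ℕ) (co : ℕ → ℕ) : Prop where
  block : Block L
  lt : ∀ a ∈ L, co a < 64
  hom : ∀ a ∈ L, ∀ b ∈ L, co (mm a b) = co a ^^^ co b
  surj : ∀ x < 64, ∃ a ∈ L, co a = x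
  inj : ∀ a ∈ L, ∀ b ∈ L, co a = co b → a = b
  z : co zT = 1
  one : co oneC = 0

/-- the coordinates are checked by a finite computation -/
theorem Coord.of_check {L : List ℕ} {co : ℕ → ℕ} (hL : Block L)
    (h1 : (L.all fun a => Nat.blt (co a) 64 &&
      L.all fun b => Nat.beq (co (mm a b)) (co a ^^^ co b)) = true)
    (h2 : (L.map co).toFinset = Finset.range 64 ∧ co oneC = 0 ∧ co zT = 1) : Coord L co := by
  simp only [List.all_eq_true, Bool.and_eq_true, Nat.blt_eq, Nat.beq_eq] at h1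
  have himg : L.toFinset.image co = Finset.range 64 := by
    rw [← h2.1]; ext; simp
  have hinj : Set.InjOn co L.toFinset := by
    refine Finset.injOn_of_card_image_eq ?_
    rw [himg, Finset.card_range, List.toFinset_card_of_nodup hL.nodup, hL.len]
  refine ⟨hL, fun a ha => (h1 a ha).1, fun a ha b hb => (h1 a ha).2 b hb, fun x hx => ?_,
    fun a ha b hb e => hinj (by simpa using ha) (by simpa using hb) e, h2.2.2, h2.2.1⟩
  have : x ∈ L.toFinset.image co := himg.symm ▸ Finset.mem_range.2 hx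
  simpa using this

universe u

variable {G : Type u} [Group G] (B : Emb G) {L : List ℕ} {co : ℕ → ℕ}

/-- the member with given coordinates -/
noncomputable def pt (L : List ℕ) (co : ℕ → ℕ) (x : ℕ) : G :=
  open Classical in if h : ∃ a ∈ L, co a = x then B.lf h.choose else 1

/-- the coordinates of a member -/
noncomputable def crd (L : List ℕ) (co : ℕ → ℕ) (g : G) : ℕ :=
  open Classical in if h : ∃ a ∈ L, B.lf a = g then co h.choose else 0

/-- the action on coordinates -/
noncomputable def act (L : List ℕ) (co : ℕ → ℕ) (g : G) (x : ℕ) : ℕ :=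
  crd B L co (g * pt B L co x * g⁻¹)

variable (hC : Coord L co)

include hC

theorem pt_co {a : ℕ} (ha : a ∈ L) : pt B L co (co a) = B.lf a := by
  have h : ∃ b ∈ L, co b = co a := ⟨a, ha, rfl⟩
  rw [pt, dif_pos h, hC.inj _ h.choose_spec.1 a ha h.choose_spec.2]

theorem crd_lf {a : ℕ} (ha : a ∈ L) : crd B L co (B.lf a) = co a := by
  have h : ∃ b ∈ L, B.lf b = B.lf a := ⟨a, ha, rfl⟩
  rw [crd, dif_pos h,
    B.lf_inj (hC.block.sq _ h.choose_spec.1).1 (hC.block.sq a ha).1 h.choose_spec.2]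

theorem pt_mem {x : ℕ} (hx : x < 64) : pt B L co x ∈ B.blockGrp L := by
  obtain ⟨a, ha, rfl⟩ := hC.surj x hx
  rw [pt_co B hC ha]
  exact (B.mem_blockGrp hC.block).2 ⟨a, ha, rfl⟩

theorem crd_pt {x : ℕ} (hx : x < 64) : crd B L co (pt B L co x) = x := by
  obtain ⟨a, ha, rfl⟩ := hC.surj x hx
  rw [pt_co B hC ha, crd_lf B hC ha]

theorem pt_crd {g : G} (hg : g ∈ B.blockGrp L) :
    crd B L co g < 64 ∧ pt B L co (crd B L co g) = g := by
  obtain ⟨a, ha, rfl⟩ := (B.mem_blockGrp hC.block).1 hg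
  rw [crd_lf B hC ha, pt_co B hC ha]
  exact ⟨hC.lt a ha, rfl⟩

theorem pt_inj {x y : ℕ} (hx : x < 64) (hy : y < 64) (h : pt B L co x = pt B L co y) : x = y := by
  rw [← crd_pt B hC hx, h, crd_pt B hC hy]

theorem pt_xor {x y : ℕ} (hx : x < 64) (hy : y < 64) :
    pt B L co (x ^^^ y) = pt B L co x * pt B L co y := by
  obtain ⟨a, ha, rfl⟩ := hC.surj x hx
  obtain ⟨b, hb, rfl⟩ := hC.surj y hy
  rw [← hC.hom a ha b hb, pt_co B hC (hC.block.closed a ha b hb).1, pt_co B hC ha, pt_co B hC hb,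
    B.lf_mul (hC.block.sq a ha).1 (hC.block.sq b hb).1]

theorem pt_zero : pt B L co 0 = 1 := by rw [← hC.one, pt_co B hC hC.block.one, B.lf_one]

theorem pt_one : pt B L co 1 = B.z := by rw [← hC.z, pt_co B hC hC.block.hz, B.lf_z]

theorem pt_inv {x : ℕ} (hx : x < 64) : (pt B L co x)⁻¹ = pt B L co x := by
  refine inv_eq_of_mul_eq_one_left ?_
  rw [← pt_xor B hC hx hx, Nat.xor_self, pt_zero B hC]

theorem conj_pt_mem {g : G} (hg : g ∈ normalizer (B.blockGrp L : Set G)) {x : ℕ} (hx : x < 64) :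
    g * pt B L co x * g⁻¹ ∈ B.blockGrp L :=
  (mem_normalizer_iff.1 hg _).1 (pt_mem B hC hx)

theorem act_spec {g : G} (hg : g ∈ normalizer (B.blockGrp L : Set G)) {x : ℕ} (hx : x < 64) :
    act B L co g x < 64 ∧ pt B L co (act B L co g x) = g * pt B L co x * g⁻¹ :=
  pt_crd B hC (conj_pt_mem B hC hg hx)

theorem act_eq {g : G} (hg : g ∈ normalizer (B.blockGrp L : Set G)) {x y : ℕ} (hx : x < 64)
    (hy : y < 64) : act B L co g x = y ↔ g * pt B L co x * g⁻¹ = pt B L co y := by
  obtain ⟨h1, h2⟩ := act_spec B hC hg hx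
  exact ⟨fun e => e ▸ h2.symm, fun e => pt_inj B hC h1 hy (h2.trans e)⟩

theorem act_mul {g h : G} (hg : g ∈ normalizer (B.blockGrp L : Set G))
    (hh : h ∈ normalizer (B.blockGrp L : Set G)) {x : ℕ} (hx : x < 64) :
    act B L co (g * h) x = act B L co g (act B L co h x) := by
  obtain ⟨h1, h2⟩ := act_spec B hC hh hx
  obtain ⟨h3, h4⟩ := act_spec B hC hg h1
  rw [act_eq B hC (mul_mem hg hh) hx h3, h4, h2]
  group

theorem act_one {x : ℕ} (hx : x < 64) : act B L co 1 x = x := by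
  rw [act_eq B hC (one_mem _) hx hx]; group

theorem act_inv_act {g : G} (hg : g ∈ normalizer (B.blockGrp L : Set G)) {x : ℕ} (hx : x < 64) :
    act B L co g⁻¹ (act B L co g x) = x ∧ act B L co g (act B L co g⁻¹ x) = x := by
  rw [← act_mul B hC (inv_mem hg) hg hx, ← act_mul B hC hg (inv_mem hg) hx, inv_mul_cancel,
    mul_inv_cancel, act_one B hC hx]
  exact ⟨rfl, rfl⟩

theorem mem_normalizer_self {g : G} (hg : g ∈ B.blockGrp L) :
    g ∈ normalizer (B.blockGrp L : Set G) :=
  le_normalizer hg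

theorem act_pt {a x : ℕ} (ha : a < 64) (hx : x < 64) : act B L co (pt B L co a) x = x := by
  rw [act_eq B hC (mem_normalizer_self B hC (pt_mem B hC ha)) hx hx, pt_inv B hC ha,
    ← pt_xor B hC ha hx, ← pt_xor B hC (xor_lt ha hx) ha]
  congr 1
  rw [Nat.xor_comm a x, Nat.xor_assoc, Nat.xor_self, Nat.xor_zero]

/-- the action of a member of the normaliser preserves the conjugates of the involution -/
theorem linAut_act {Z : List ℕ} (hZ : ∀ x, x ∈ Z ↔ x < 64 ∧ IsConj B.z (pt B L co x)) {g : G}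
    (hg : g ∈ normalizer (B.blockGrp L : Set G)) : LinAut Z (act B L co g) := by
  refine ⟨fun x hx => (act_spec B hC hg hx).1, fun x hx y hy => ?_, fun x hx y hy e => ?_,
    fun x hx => ?_⟩
  · obtain ⟨h1, h2⟩ := act_spec B hC hg hx
    obtain ⟨h3, h4⟩ := act_spec B hC hg hy
    rw [act_eq B hC hg (xor_lt hx hy) (xor_lt h1 h3), pt_xor B hC hx hy, pt_xor B hC h1 h3, h2, h4]
    group
  · rw [← (act_inv_act B hC hg hx).1, e, (act_inv_act B hC hg hy).1]
  · obtain ⟨hx', hc⟩ := (hZ x).1 hx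
    obtain ⟨h1, h2⟩ := act_spec B hC hg hx'
    exact (hZ _).2 ⟨h1, hc.trans (h2 ▸ isConj_iff.2 ⟨g, rfl⟩)⟩

/-- a member of the normaliser acting trivially lies in the block -/
theorem mem_of_act_id (hcent : centralizer (B.blockGrp L : Set G) = B.blockGrp L) {g : G}
    (hg : g ∈ normalizer (B.blockGrp L : Set G)) (h : ∀ x < 64, act B L co g x = x) :
    g ∈ B.blockGrp L := by
  rw [← hcent, mem_centralizer_iff]
  intro y hy
  obtain ⟨hl, e⟩ := pt_crd B hC hy
  have := (act_eq B hC hg hl hl).1 (h _ hl)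
  rw [e, mul_inv_eq_iff_eq_mul] at this
  exact this.symm

/-- two members acting alike differ by a member of the block -/
theorem exists_pt_of_act_eq (hcent : centralizer (B.blockGrp L : Set G) = B.blockGrp L) {g h : G}
    (hg : g ∈ normalizer (B.blockGrp L : Set G)) (hh : h ∈ normalizer (B.blockGrp L : Set G))
    (e : ∀ x < 64, act B L co g x = act B L co h x) : ∃ b < 64, g = pt B L co b * h := by
  have hm : g * h⁻¹ ∈ B.blockGrp L := by
    refine mem_of_act_id B hC hcent (mul_mem hg (inv_mem hh)) fun x hx => ?_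
    obtain ⟨h1, -⟩ := act_spec B hC (inv_mem hh) hx
    rw [act_mul B hC hg (inv_mem hh) hx, e _ h1, (act_inv_act B hC hh hx).2]
  obtain ⟨hl, e'⟩ := pt_crd B hC hm
  exact ⟨_, hl, by rw [e', inv_mul_cancel_right]⟩

end Cfsg.Agent.H67.Held
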