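import Cfsg.Agent.H98.Held.Tables
import Cfsg.Agent.H67.Held.Lin

/-!
The coordinates on the two groups of order 64 in the centraliser of the transvection.
-/

set_option autoImplicit false
set_option maxRecDepth 100000

namespace Cfsg.Agent.H67.Held

open Cfsg.Agent.H98.Held

/-- the bits at given positions -/
def coordAt (ps : List ℕ) (a : ℕ) : ℕ :=
  (ps.mapIdx fun i p => if (a ^^^ oneC).testBit p then 2 ^ i else 0).sum

/-- the coordinates on the first subgroup -/
def co1 : ℕ → ℕ := coordAt [1, 3, 4, 11, 13, 14]

theorem co1_hom : (aOne.all fun a => Nat.blt (co1 a) 64 &&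
    aOne.all fun b => Nat.beq (co1 (mm a b)) (co1 a ^^^ co1 b)) = true := by
  decide +kernel

theorem co1_bij : ((aOne.map co1).toFinset = Finset.range 64) ∧ co1 oneC = 0 ∧ co1 zT = 1 := by
  decide +kernel

theorem co1_cls : (aOne.all fun a => Nat.beq a oneC ||
    ((clsA1.getD (cls a) []).contains (co1 a) && Nat.ble (cls a + 1) 8)) = true := by
  decide +kernel

theorem clsA1_co : ((List.range 8).all fun k => (clsA1.getD k []).all fun x =>
    aOne.any fun a => Nat.beq (co1 a) x && Nat.beq (cls a) k) = true := by
  decide +kernel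

/-- the coordinates on the second subgroup -/
def co2 : ℕ → ℕ := coordAt [1, 11, 16, 4, 14, 19]

theorem co2_hom : (aTwo.all fun a => Nat.blt (co2 a) 64 &&
    aTwo.all fun b => Nat.beq (co2 (mm a b)) (co2 a ^^^ co2 b)) = true := by
  decide +kernel

theorem co2_bij : ((aTwo.map co2).toFinset = Finset.range 64) ∧ co2 oneC = 0 ∧ co2 zT = 1 := by
  decide +kernel

theorem co2_cls : (aTwo.all fun a => Nat.beq a oneC ||
    ((clsA2.getD (cls a) []).contains (co2 a) && Nat.ble (cls a + 1) 8)) = true := by
  decide +kernel

theorem clsA2_co : ((List.range 8).all fun k => (clsA2.getD k []).all fun x =>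
    aTwo.any fun a => Nat.beq (co2 a) x && Nat.beq (cls a) k) = true := by
  decide +kernel

end Cfsg.Agent.H67.Held
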