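import Cfsg.Agent.H67.Held.Lin

/-!
The automorphism of order three generating the radical of both stabilisers.
-/

set_option autoImplicit false
set_option maxRecDepth 100000

namespace Cfsg.Agent.H67.Held

theorem Z_small : (∀ x ∈ Z21, x < 64) ∧ (∀ x ∈ Z45, x < 64) := by decide +kernel

theorem Z_units : (∀ i < 6, 2 ^ i ∈ Z21) ∧ (∀ i < 6, 2 ^ i ∈ Z45) := by decide +kernel

/-- the automorphism of order three generating the radical of both stabilisers -/
def dMap (x : ℕ) : ℕ := x / 8 + 8 * ((x % 8) ^^^ (x / 8))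

/-- a table commutes with `dMap` or inverts it -/
def normD (T : List ℕ) : Bool :=
  ((List.range 64).all fun x => T.getD (dMap x) 0 == dMap (T.getD x 0)) ||
    ((List.range 64).all fun x => T.getD (dMap x) 0 == dMap (dMap (T.getD x 0)))

theorem dMap_facts : ∀ x < 64, dMap x < 64 ∧ dMap (dMap (dMap x)) = x ∧
    (x ≠ 0 → dMap x ≠ x) ∧ (x ∈ Z21 → dMap x ∈ Z21) ∧ (x ∈ Z45 → dMap x ∈ Z45) := by
  decide +kernel

theorem dMap_add : ∀ x < 64, ∀ y < 64, dMap (x ^^^ y) = dMap x ^^^ dMap y := by decide +kernel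

/-- `f` commutes with `dMap` or inverts it -/
def NormalisesD (f : ℕ → ℕ) : Prop :=
  (∀ x < 64, f (dMap x) = dMap (f x)) ∨ (∀ x < 64, f (dMap x) = dMap (dMap (f x)))

theorem normalisesD_of_table {f : ℕ → ℕ} (h : normD ((List.range 64).map f) = true) :
    NormalisesD f := by
  have hT : ∀ x < 64, ((List.range 64).map f).getD x 0 = f x := fun x hx => by
    simp [List.getD_eq_getElem?_getD, hx]
  simp only [normD, Bool.or_eq_true, List.all_eq_true, List.mem_range, beq_iff_eq] at h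
  refine h.imp (fun h x hx => ?_) (fun h x hx => ?_) <;>
    · have := h x hx
      rwa [hT x hx, hT _ (dMap_facts x hx).1] at this

theorem exists_inverse {Z : List ℕ} {t : ℕ → ℕ} (hZ : ∀ x ∈ Z, x < 64) (ht : LinAut Z t) :
    ∃ r, LinAut Z r ∧ ∀ x < 64, r (t x) = x ∧ t (r x) = x := by
  classical
  have hsur : ∀ y < 64, ∃ x, x < 64 ∧ t x = y := by
    intro y hy
    have h : (Finset.range 64).image t = Finset.range 64 := by
      refine Finset.eq_of_subset_of_card_le (fun z hz => ?_) ?_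
      · obtain ⟨x, hx, rfl⟩ := Finset.mem_image.1 hz
        exact Finset.mem_range.2 (ht.lt x (Finset.mem_range.1 hx))
      · rw [Finset.card_image_of_injOn]
        intro a ha b hb e
        exact ht.inj a (Finset.mem_range.1 ha) b (Finset.mem_range.1 hb) e
    obtain ⟨x, hx, e⟩ := Finset.mem_image.1 (h.symm ▸ Finset.mem_range.2 hy :
      y ∈ (Finset.range 64).image t)
    exact ⟨x, Finset.mem_range.1 hx, e⟩
  let r : ℕ → ℕ := fun y => if h : y < 64 then (hsur y h).choose else 0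
  have hr : ∀ y < 64, r y < 64 ∧ t (r y) = y := fun y hy => by
    simp only [r, hy, dif_pos]; exact (hsur y hy).choose_spec
  have hrt : ∀ x < 64, r (t x) = x := fun x hx =>
    ht.inj _ (hr _ (ht.lt x hx)).1 x hx (hr _ (ht.lt x hx)).2
  refine ⟨r, ⟨fun y hy => (hr y hy).1, fun a ha b hb => ?_, fun a ha b hb e => ?_, fun a ha => ?_⟩,
    fun x hx => ⟨hrt x hx, (hr x hx).2⟩⟩
  · apply ht.inj _ (hr _ (xor_lt ha hb)).1 _ (xor_lt (hr a ha).1 (hr b hb).1)
    rw [(hr _ (xor_lt ha hb)).2, ht.add _ (hr a ha).1 _ (hr b hb).1, (hr a ha).2, (hr b hb).2]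
  · rw [← (hr a ha).2, ← (hr b hb).2, e]
  · have := ha
    rw [← (hr a (hZ a ha)).2, ht.mem_iff hZ (hr a (hZ a ha)).1] at this
    exact this

theorem normalisesD_of_stab {Z : List ℕ} (hZ : ∀ x ∈ Z, x < 64) (h1Z : 1 ∈ Z) (tr : List (List ℕ))
    (htr : tr.all (linOK Z) = true) (himg : tr.map (fun t => lin t 1) = Z)
    (htn : tr.all (fun t => normD ((List.range 64).map (lin t))) = true)
    (hs : ∀ g, LinAut Z g → g 1 = 1 → NormalisesD g) {f : ℕ → ℕ} (hf : LinAut Z f) :
    NormalisesD f := by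
  have hmem : f 1 ∈ tr.map (fun t => lin t 1) := himg.symm ▸ hf.mem 1 h1Z
  obtain ⟨t, ht, hft⟩ := List.mem_map.1 hmem
  have htl := linOK_sound (List.all_eq_true.1 htr t ht)
  obtain ⟨r, hr, hrt⟩ := exists_inverse hZ htl
  have hg : LinAut Z (fun x => r (f x)) :=
    ⟨fun x hx => hr.lt _ (hf.lt x hx),
      fun x hx y hy => by rw [hf.add x hx y hy, hr.add _ (hf.lt x hx) _ (hf.lt y hy)],
      fun x hx y hy e => hf.inj x hx y hy (hr.inj _ (hf.lt x hx) _ (hf.lt y hy) e),
      fun x hx => hr.mem _ (hf.mem x hx)⟩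
  have hg1 : r (f 1) = 1 := by rw [← hft]; exact (hrt 1 (by norm_num)).1
  have hfx : ∀ x < 64, f x = lin t (r (f x)) := fun x hx => ((hrt _ (hf.lt x hx)).2).symm
  have ht' := normalisesD_of_table (List.all_eq_true.1 htn t ht)
  have hd : ∀ x < 64, dMap x < 64 := fun x hx => (dMap_facts x hx).1
  rcases hs _ hg hg1 with hgd | hgd <;> simp only at hgd <;> rcases ht' with htd | htd
  · left; intro x hx
    rw [hfx _ (hd x hx), hgd x hx, htd _ (hr.lt _ (hf.lt x hx)), ← hfx x hx]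
  · right; intro x hx
    rw [hfx _ (hd x hx), hgd x hx, htd _ (hr.lt _ (hf.lt x hx)), ← hfx x hx]
  · right; intro x hx
    rw [hfx _ (hd x hx), hgd x hx, htd _ (hd _ (hr.lt _ (hf.lt x hx))), htd _ (hr.lt _ (hf.lt x hx)), ← hfx x hx]
  · left; intro x hx
    rw [hfx _ (hd x hx), hgd x hx, htd _ (hd _ (hr.lt _ (hf.lt x hx))), htd _ (hr.lt _ (hf.lt x hx)), ← hfx x hx,
      (dMap_facts _ (hd _ (hf.lt x hx))).2.1]

end Cfsg.Agent.H67.Held
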