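import Cfsg.Agent.H67.Held.Lin

/-!
The possible fusion patterns and the stabilisers of the two orbits.
-/

set_option autoImplicit false
set_option maxRecDepth 100000

namespace Cfsg.Agent.H67.Held

theorem cls_small : ∀ m < 256, (∀ x ∈ Zof clsA1 m, x < 64) ∧ (∀ x ∈ Zof clsA2 m, x < 64) := by
  decide +kernel

/-- for each excluded selection a member of degree different from that of `1` -/
def witnesses : List (ℕ × Bool × ℕ) := [
  (7, false, 2),
  (11, false, 2),
  (13, false, 8),
  (67, false, 2),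
  (69, false, 20),
  (71, false, 2),
  (75, false, 2),
  (77, false, 8),
  (131, true, 20),
  (133, true, 2),
  (135, false, 2),
  (139, false, 2),
  (141, false, 8),
  (195, false, 2),
  (197, false, 20),
  (199, false, 2),
  (203, false, 2),
  (205, false, 8)]

theorem witnesses_ok : ∀ w ∈ witnesses,
    w.2.2 ∈ Zof (cond w.2.1 clsA2 clsA1) w.1 ∧
      deg (Zof (cond w.2.1 clsA2 clsA1) w.1) w.2.2 ≠ deg (Zof (cond w.2.1 clsA2 clsA1) w.1) 1 := by
  decide +kernel

theorem masks_cover : ((List.range 256).all fun m => !m.testBit 0 || m.testBit 4 || m.testBit 5 ||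
    !(m.testBit 1 || m.testBit 2) || m == 3 || m == 5 || goodMasks.contains m ||
      (witnesses.map Prod.fst).contains m) = true := by
  decide +kernel

/-- the selections on which the automorphisms are transitive on both subgroups -/
theorem fusion {m : ℕ} (hm : m < 256) (h0 : m.testBit 0 = true) (h4 : m.testBit 4 = false)
    (h5 : m.testBit 5 = false) (h12 : m.testBit 1 = true ∨ m.testBit 2 = true)
    (h1 : ∀ v ∈ Zof clsA1 m, ∃ f, LinAut (Zof clsA1 m) f ∧ f 1 = v)
    (h2 : ∀ v ∈ Zof clsA2 m, ∃ f, LinAut (Zof clsA2 m) f ∧ f 1 = v) :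
    m = 3 ∨ m = 5 ∨ m ∈ goodMasks := by
  have h := List.all_eq_true.1 masks_cover m (List.mem_range.2 hm)
  simp only [Bool.or_eq_true, Bool.not_eq_true', Bool.or_eq_false_iff, beq_iff_eq,
    List.contains_iff_mem, h0, h4, h5, Bool.true_eq_false, Bool.false_eq_true, false_or] at h
  rcases h with ((((h | h) | h) | h) | hw)
  · rcases h12 with h' | h'
    · simp [h.1] at h'
    · simp [h.2] at h'
  · exact Or.inl h
  · exact Or.inr (Or.inl h)
  · exact Or.inr (Or.inr h)
  exfalso
  obtain ⟨⟨m', b, u⟩, hw2, rfl⟩ := List.mem_map.1 hw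
  obtain ⟨hu, hne⟩ := witnesses_ok _ hw2
  cases b
  · exact not_transitive (cls_small _ hm).1 hu (by norm_num) hne h1
  · exact not_transitive (cls_small _ hm).2 hu (by norm_num) hne h2

theorem Zof_good :
    (Zof clsA1 15).toFinset = Z21.toFinset ∧ (Zof clsA2 15).toFinset = Z21.toFinset ∧
    (Zof clsA1 143).toFinset = Z21.toFinset ∧ (Zof clsA2 143).toFinset = Z45.toFinset ∧
    (Zof clsA1 79).toFinset = Z45.toFinset ∧ (Zof clsA2 79).toFinset = Z21.toFinset ∧
    (Zof clsA1 207).toFinset = Z45.toFinset ∧ (Zof clsA2 207).toFinset = Z45.toFinset := by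
  decide +kernel

theorem Zof_point : (Zof clsA1 3).length = 7 ∧ (Zof clsA2 3).length = 3 ∧
    (Zof clsA1 5).length = 3 ∧ (Zof clsA2 5).length = 7 := by
  decide +kernel

end Cfsg.Agent.H67.Held
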