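import Cfsg.Agent.H67.Held.Act
import Cfsg.Agent.H67.Held.DMap

/-!
The normaliser of a group of order 64 splits: the automorphisms of the orbit lift to the normaliser
of an element of order three acting as `dMap`.
-/

set_option autoImplicit false

namespace Cfsg.Agent.H67.Held

open Subgroup Cfsg.Agent.H98.Held

attribute [local irreducible] mm oneC zT dMap

/-- the hypotheses on a block and its orbit -/
structure Setup {G : Type*} [Group G] (B : Emb G) (L : List ℕ) (co : ℕ → ℕ) (Z : List ℕ) : Prop where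
  coord : Coord L co
  cent : centralizer (B.blockGrp L : Set G) = B.blockGrp L
  memZ : ∀ x, x ∈ Z ↔ x < 64 ∧ IsConj B.z (pt B L co x)
  real : ∀ f, LinAut Z f → ∃ g ∈ normalizer (B.blockGrp L : Set G), ∀ x < 64, act B L co g x = f x
  dAut : LinAut Z dMap
  norm : ∀ f, LinAut Z f → NormalisesD f

theorem LinAut.comp {Z : List ℕ} {f g : ℕ → ℕ} (hf : LinAut Z f) (hg : LinAut Z g) :
    LinAut Z (f ∘ g) :=
  ⟨fun x hx => hf.lt _ (hg.lt x hx),
    fun x hx y hy => by
      simp only [Function.comp_apply]; rw [hg.add x hx y hy, hf.add _ (hg.lt x hx) _ (hg.lt y hy)],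
    fun x hx y hy e => hg.inj x hx y hy (hf.inj _ (hg.lt x hx) _ (hg.lt y hy) e),
    fun x hx => hf.mem _ (hg.mem x hx)⟩

theorem LinAut.map_zero {Z : List ℕ} {f : ℕ → ℕ} (hf : LinAut Z f) : f 0 = 0 := by
  have h := hf.add 0 (by norm_num) 0 (by norm_num)
  simpa using h

theorem dMap_sum : ∀ x < 64, dMap x ^^^ x ^^^ dMap (dMap x) = 0 ∧
    dMap (dMap x) ^^^ x ^^^ dMap (dMap (dMap (dMap x))) = 0 ∧ (dMap x = x → x = 0) ∧
    (dMap (dMap x) = x → x = 0) := by
  unfold dMap; decide +kernel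

theorem dMap_eight : dMap 8 ≠ 8 := by unfold dMap; decide +kernel

namespace Setup

universe u

variable {G : Type u} [Group G] {B : Emb G} {L : List ℕ} {co : ℕ → ℕ} {Z : List ℕ}
  (S : Setup B L co Z)

include S

theorem Z_lt : ∀ x ∈ Z, x < 64 := fun x hx => ((S.memZ x).1 hx).1

/-- the element of order three -/
noncomputable def g0 : G := (S.real dMap S.dAut).choose

theorem g0_mem : S.g0 ∈ normalizer (B.blockGrp L : Set G) := (S.real dMap S.dAut).choose_spec.1

theorem g0_act {x : ℕ} (hx : x < 64) : act B L co S.g0 x = dMap x :=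
  (S.real dMap S.dAut).choose_spec.2 x hx

theorem g0_conj {x : ℕ} (hx : x < 64) :
    S.g0 * pt B L co x * S.g0⁻¹ = pt B L co (dMap x) :=
  (act_eq B S.coord S.g0_mem hx (dMap_facts x hx).1).1 (S.g0_act hx)

theorem g0g0_act {x : ℕ} (hx : x < 64) : act B L co (S.g0 * S.g0) x = dMap (dMap x) := by
  rw [act_mul B S.coord S.g0_mem S.g0_mem hx, S.g0_act hx, S.g0_act (dMap_facts x hx).1]

theorem g0_cube : S.g0 * S.g0 * S.g0 = 1 := by
  obtain ⟨h1, h2⟩ := pt_crd B S.coord (mem_of_act_id B S.coord S.cent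
    (mul_mem (mul_mem S.g0_mem S.g0_mem) S.g0_mem) fun x hx => by
      rw [act_mul B S.coord (mul_mem S.g0_mem S.g0_mem) S.g0_mem hx, S.g0_act hx,
        S.g0g0_act (dMap_facts x hx).1, (dMap_facts x hx).2.1])
  set b := crd B L co (S.g0 * S.g0 * S.g0) with hb
  have h3 : dMap b = b := by
    refine pt_inj B S.coord (dMap_facts b h1).1 h1 ?_
    rw [← S.g0_conj h1, h2]; group
  rw [← h2, (dMap_sum b h1).2.2.1 h3, pt_zero B S.coord]

theorem g0_inv : S.g0⁻¹ = S.g0 * S.g0 :=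
  inv_eq_of_mul_eq_one_left S.g0_cube

theorem g0_not_mem : S.g0 ∉ B.blockGrp L := by
  intro h
  obtain ⟨h1, h2⟩ := pt_crd B S.coord h
  have e := S.g0_act (x := 8) (by norm_num)
  rw [← h2, act_pt B S.coord h1 (by norm_num)] at e
  exact dMap_eight e.symm

/-- membership of the lift of the automorphism group -/
def InK (g : G) : Prop :=
  g ∈ normalizer (B.blockGrp L : Set G) ∧
    (g * S.g0 * g⁻¹ = S.g0 ∨ g * S.g0 * g⁻¹ = S.g0 * S.g0)

theorem inK_one : S.InK 1 := ⟨one_mem _, Or.inl (by group)⟩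

theorem inK_g0 : S.InK S.g0 := ⟨S.g0_mem, Or.inl (by group)⟩

theorem conj_sq {g : G} (h : g * S.g0 * g⁻¹ = S.g0 * S.g0) :
    g * (S.g0 * S.g0) * g⁻¹ = S.g0 := by
  calc g * (S.g0 * S.g0) * g⁻¹ = (g * S.g0 * g⁻¹) * (g * S.g0 * g⁻¹) := by group
    _ = (S.g0 * S.g0) * (S.g0 * S.g0) := by rw [h]
    _ = S.g0 * S.g0 * S.g0 * S.g0 := by group
    _ = S.g0 := by rw [S.g0_cube, one_mul]

theorem inK_inv {g : G} (hg : S.InK g) : S.InK g⁻¹ := by
  refine ⟨inv_mem hg.1, hg.2.imp (fun h => ?_) (fun h => ?_)⟩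
  · conv_lhs => arg 1; arg 2; rw [← h]
    group
  · have := S.conj_sq h
    conv_lhs => arg 1; arg 2; rw [← this]
    group

theorem inK_mul {g h : G} (hg : S.InK g) (hh : S.InK h) : S.InK (g * h) := by
  refine ⟨mul_mem hg.1 hh.1, ?_⟩
  rw [show g * h * S.g0 * (g * h)⁻¹ = g * (h * S.g0 * h⁻¹) * g⁻¹ by group]
  rcases hh.2 with e | e <;> rw [e]
  · exact hg.2
  · rcases hg.2 with e' | e'
    · exact Or.inr (by
        rw [show g * (S.g0 * S.g0) * g⁻¹ = (g * S.g0 * g⁻¹) * (g * S.g0 * g⁻¹) by group, e'])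
    · exact Or.inl (S.conj_sq e')

/-- the lift is unique -/
theorem inK_unique {g h : G} (hg : S.InK g) (hh : S.InK h)
    (e : ∀ x < 64, act B L co g x = act B L co h x) : g = h := by
  obtain ⟨b, hb, hgb⟩ := exists_pt_of_act_eq B S.coord S.cent hg.1 hh.1 e
  have hq : S.InK (pt B L co b) := by
    have := S.inK_mul hg (S.inK_inv hh)
    rwa [hgb, mul_inv_cancel_right] at this
  have hdb := (dMap_facts b hb).1
  have key : pt B L co b * S.g0 * (pt B L co b)⁻¹ = pt B L co (b ^^^ dMap b) * S.g0 := by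
    rw [pt_xor B S.coord hb hdb, pt_inv B S.coord hb, ← S.g0_conj hb]
    group
  rcases hq.2 with h1 | h1 <;> rw [key] at h1
  · have h2 : pt B L co (b ^^^ dMap b) = pt B L co 0 := by
      rw [pt_zero B S.coord]; exact mul_eq_right.1 h1
    have h3 := Nat.xor_eq_zero_iff.1 (pt_inj B S.coord (xor_lt hb hdb) (by norm_num) h2)
    rw [hgb, (dMap_sum b hb).2.2.1 h3.symm, pt_zero B S.coord, one_mul]
  · exact absurd (mul_right_cancel h1 ▸ pt_mem B S.coord (xor_lt hb hdb)) S.g0_not_mem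

theorem conj_g0_pt {g : G} {x b : ℕ} (hx : x < 64) (hb : b < 64) {h : G} {d : ℕ}
    (hd : d < 64) (hh : h * pt B L co x * h⁻¹ = pt B L co d)
    (e : g * S.g0 * g⁻¹ = pt B L co b * h) :
    pt B L co x * g * S.g0 * (pt B L co x * g)⁻¹ = pt B L co (x ^^^ b ^^^ d) * h := by
  rw [pt_xor B S.coord (xor_lt hx hb) hd, pt_xor B S.coord hx hb, ← hh]
  calc pt B L co x * g * S.g0 * (pt B L co x * g)⁻¹
      = pt B L co x * (g * S.g0 * g⁻¹) * (pt B L co x)⁻¹ := by group
    _ = pt B L co x * (pt B L co b * h) * pt B L co x := by rw [e, pt_inv B S.coord hx]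
    _ = _ := by group

/-- every automorphism lifts -/
theorem exists_lift {f : ℕ → ℕ} (hf : LinAut Z f) :
    ∃ g, S.InK g ∧ ∀ x < 64, act B L co g x = f x := by
  obtain ⟨g, hg, hgf⟩ := S.real f hf
  obtain ⟨r, hr, hrf⟩ := exists_inverse S.Z_lt hf
  have hN := mul_mem (mul_mem hg S.g0_mem) (inv_mem hg)
  have hact : ∀ y < 64, act B L co (g * S.g0 * g⁻¹) y = f (dMap (r y)) := by
    intro y hy
    have h1 : act B L co g⁻¹ y = r y := by
      conv_lhs => rw [← (hrf y hy).2, ← hgf _ (hr.lt y hy)]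
      exact (act_inv_act B S.coord hg (hr.lt y hy)).1
    rw [act_mul B S.coord (mul_mem hg S.g0_mem) (inv_mem hg) hy, h1,
      act_mul B S.coord hg S.g0_mem (hr.lt y hy), S.g0_act (hr.lt y hy),
      hgf _ (dMap_facts _ (hr.lt y hy)).1]
  have fin : ∀ {x : ℕ} {d : G}, x < 64 → (d = S.g0 ∨ d = S.g0 * S.g0) →
      pt B L co x * g * S.g0 * (pt B L co x * g)⁻¹ = d →
      ∃ g', S.InK g' ∧ ∀ y < 64, act B L co g' y = f y := by
    intro x d hx hd he
    have hxN := mem_normalizer_self B S.coord (pt_mem B S.coord hx)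
    refine ⟨pt B L co x * g, ⟨mul_mem hxN hg, hd.imp (fun h => he.trans h) (fun h => he.trans h)⟩,
      fun y hy => ?_⟩
    rw [act_mul B S.coord hxN hg hy, hgf y hy, act_pt B S.coord hx (hf.lt y hy)]
  rcases S.norm f hf with hc | hc
  · obtain ⟨b, hb, hgb⟩ := exists_pt_of_act_eq B S.coord S.cent hN S.g0_mem fun y hy => by
      rw [hact y hy, hc _ (hr.lt y hy), (hrf y hy).2, S.g0_act hy]
    obtain ⟨hx, -⟩ := dMap_facts b hb
    refine fin hx (Or.inl rfl) ?_
    rw [S.conj_g0_pt hx hb (dMap_facts _ hx).1 (S.g0_conj hx) hgb, (dMap_sum b hb).1,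
      pt_zero B S.coord, one_mul]
  · obtain ⟨b, hb, hgb⟩ := exists_pt_of_act_eq B S.coord S.cent hN
      (mul_mem S.g0_mem S.g0_mem) fun y hy => by
      rw [hact y hy, hc _ (hr.lt y hy), (hrf y hy).2, S.g0g0_act hy]
    have hx := (dMap_facts _ (dMap_facts b hb).1).1
    have hd := (dMap_facts _ (dMap_facts _ hx).1).1
    refine fin hx (Or.inr rfl) ?_
    rw [S.conj_g0_pt hx hb hd ((act_eq B S.coord (mul_mem S.g0_mem S.g0_mem) hx hd).1
      (S.g0g0_act hx)) hgb, (dMap_sum b hb).2.1, pt_zero B S.coord, one_mul]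

open Classical in
/-- the lift of an automorphism -/
noncomputable def lift (f : ℕ → ℕ) : G := if h : LinAut Z f then (S.exists_lift h).choose else 1

theorem lift_spec {f : ℕ → ℕ} (hf : LinAut Z f) :
    S.InK (S.lift f) ∧ ∀ x < 64, act B L co (S.lift f) x = f x := by
  rw [lift, dif_pos hf]
  exact (S.exists_lift hf).choose_spec

theorem lift_mem {f : ℕ → ℕ} (hf : LinAut Z f) :
    S.lift f ∈ normalizer (B.blockGrp L : Set G) := (S.lift_spec hf).1.1

theorem lift_mul {f g : ℕ → ℕ} (hf : LinAut Z f) (hg : LinAut Z g) :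
    S.lift (f ∘ g) = S.lift f * S.lift g := by
  obtain ⟨h1, h2⟩ := S.lift_spec (hf.comp hg)
  obtain ⟨h3, h4⟩ := S.lift_spec hf
  obtain ⟨h5, h6⟩ := S.lift_spec hg
  refine S.inK_unique h1 (S.inK_mul h3 h5) fun x hx => ?_
  rw [act_mul B S.coord h3.1 h5.1 hx, h2 x hx, h6 x hx, h4 _ (hg.lt x hx)]
  rfl

theorem lift_congr {f g : ℕ → ℕ} (hf : LinAut Z f) (hg : LinAut Z g)
    (h : ∀ x < 64, f x = g x) : S.lift f = S.lift g :=
  S.inK_unique (S.lift_spec hf).1 (S.lift_spec hg).1 fun x hx => by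
    rw [(S.lift_spec hf).2 x hx, (S.lift_spec hg).2 x hx, h x hx]

theorem lift_one {f : ℕ → ℕ} (hf : LinAut Z f) (h : ∀ x < 64, f x = x) : S.lift f = 1 :=
  S.inK_unique (S.lift_spec hf).1 S.inK_one fun x hx => by
    rw [(S.lift_spec hf).2 x hx, h x hx, act_one B S.coord hx]

theorem lift_dMap : S.lift dMap = S.g0 :=
  S.inK_unique (S.lift_spec S.dAut).1 S.inK_g0 fun x hx => by
    rw [(S.lift_spec S.dAut).2 x hx, S.g0_act hx]

/-- the lift acts by the automorphism -/
theorem lift_conj {f : ℕ → ℕ} (hf : LinAut Z f) {x : ℕ} (hx : x < 64) :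
    S.lift f * pt B L co x * (S.lift f)⁻¹ = pt B L co (f x) :=
  (act_eq B S.coord (S.lift_mem hf) hx (hf.lt x hx)).1 ((S.lift_spec hf).2 x hx)

/-- the lift of an automorphism fixing the involution lies in its centraliser -/
theorem lift_code {f : ℕ → ℕ} (hf : LinAut Z f) (h1 : f 1 = 1) :
    ∃ a, Gd a ∧ B.lf a = S.lift f := by
  refine B.exists_code ?_
  have h := S.lift_conj hf (x := 1) (by norm_num)
  rw [h1, pt_one B S.coord, mul_inv_eq_iff_eq_mul] at h
  exact h

/-- the normaliser is the block times the lifts -/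
theorem exists_decomp {g : G} (hg : g ∈ normalizer (B.blockGrp L : Set G)) :
    ∃ b < 64, ∃ f, LinAut Z f ∧ g = pt B L co b * S.lift f := by
  have hf := linAut_act B S.coord S.memZ hg
  obtain ⟨b, hb, e⟩ := exists_pt_of_act_eq B S.coord S.cent hg (S.lift_mem hf) fun x hx =>
    ((S.lift_spec hf).2 x hx).symm
  exact ⟨b, hb, _, hf, e⟩

end Setup

end Cfsg.Agent.H67.Held
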