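import Cfsg.Agent.H98.Held.Glue

/-!
The outer involution: the lift in the complement of the first block normalises the second block and,
after moving that complement by the central involution if necessary, lies in the required coset.
-/

set_option autoImplicit false

namespace Cfsg.Agent.H67.Held

open Subgroup Cfsg.Agent.H98.Held Cfsg.Agent.H95.Held Cfsg.Agent.H45

attribute [local irreducible] mm oneC zT cls

/-- data pinning the outer involution -/
structure OData where
  fA : List ℕ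
  fB : List ℕ
  fl : List ℕ
  e : ℕ
  b0 : ℕ
  ww : List (List ℕ × List ℕ)
  sel : List (List ℕ)

/-- the tables with a candidate outer letter -/
def OData.tab (D : OData) (S : Spec) (b l : ℕ) : List ℕ :=
  if l = S.out then (List.range 64).map fun i => b ^^^ D.fl.getD i 0 else S.pB l

/-- a letter of both local groups -/
def common (S : Spec) (l : ℕ) : Bool :=
  Nat.blt l 7 && !(Nat.beq l S.skipOne) && !(Nat.beq l S.skipTwo)

/-- the checks -/
noncomputable def OData.ok (D : OData) (S : Spec) (ZA ZB : List ℕ) : Bool :=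
  linOK ZA D.fA && linOK ZB D.fB &&
  ((List.range 64).all fun i =>
    Nat.blt ((S.pA S.out).getD i 64) 64 && Nat.blt (D.fl.getD i 0) 64 &&
      Nat.beq (co1 (aOne.getD ((S.pA S.out).getD i 64) 0)) (lin D.fA (co1 (aOne.getD i 0))) &&
      Nat.beq (co2 (aTwo.getD (D.fl.getD i 0) 0)) (lin D.fB (co2 (aTwo.getD i 0))) &&
      Nat.beq ((S.pB S.out).getD i 64) (D.b0 ^^^ D.fl.getD i 0) &&
      (List.range 64).all fun j =>
        Nat.beq (D.fl.getD (i ^^^ j) 0) (D.fl.getD i 0 ^^^ D.fl.getD j 0)) &&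
  Nat.blt S.out 7 && common S S.out && wordOk S.pA [S.out, S.out] &&
  Nat.blt D.b0 64 && Nat.blt D.e 64 && Nat.beq (aTwo.getD D.e 0) zT &&
  ((List.range 7).all fun l => gdB (S.dB l).2.1 (S.dB l).2.2) &&
  ((List.range 6).all fun k =>
    let u := (D.ww.getD k ([], [])).1
    let v := (D.ww.getD k ([], [])).2.reverse
    (u ++ v).all (fun l => common S l && !(Nat.beq l S.out)) &&
      wordOk S.pA (S.out :: u ++ S.out :: v) &&
      Nat.beq (u.foldr (fun l x => mm (S.c l) x) oneC) (aTwo.getD (2 ^ k) 0) &&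
      Nat.beq (v.foldr (fun l x => mm (S.c l) x) oneC) (aTwo.getD (D.fl.getD (2 ^ k) 0) 0)) &&
  D.sel.all fun w => w.all (common S) && wordOk S.pA w

/-- the relations pin the translation -/
def OData.pins (D : OData) (S : Spec) : Bool :=
  (List.range 64).all fun b => !(D.sel.all fun w => wordOk (D.tab S b) w) || Nat.beq b D.b0 ||
    Nat.beq b (D.b0 ^^^ (D.e ^^^ D.fl.getD D.e 0))

theorem lin_units : ∀ i < 64, lin [1, 2, 4, 8, 16, 32] i = i := by decide +kernel

theorem evalW_cons_append {G : Type*} [Group G] (e : ℕ → G) (o : ℕ) (u v : List ℕ) :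
    evalW e (o :: u ++ o :: v) = e o * evalW e u * e o * evalW e v := by
  simp [evalW, mul_assoc]

universe u

variable {G : Type u} [Group G] [Finite G] {B : Emb G}

/-- the outer involution with its complements -/
theorem exists_outer {S : Spec} {ZA ZB : List ℕ} (hS : S.ok = true) (D : OData)
    (hD : D.ok S ZA ZB = true) (hp : D.pins S = true)
    (CA : ComplData B aOne co1 ZA S.dOne) (CB : ComplData B aTwo co2 ZB S.dTwo) :
    ∃ g, Nonempty (Outer B S g) := by
  have hcA : Coord aOne co1 := coord1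
  have hcB : Coord aTwo co2 := coord2
  simp only [OData.ok, Bool.and_eq_true, List.all_eq_true, List.mem_range, Nat.blt_eq,
    Nat.beq_eq] at hD
  obtain ⟨⟨⟨⟨⟨⟨⟨⟨⟨⟨⟨hfA, hfB⟩, htab⟩, hout⟩, hcom⟩, hsqw⟩, hb0⟩, he⟩, hez⟩, hdB⟩, hww⟩, hsel⟩ := hD
  have hne : S.out ≠ S.skipOne ∧ S.out ≠ S.skipTwo := by
    simp only [common, Bool.and_eq_true, Bool.not_eq_true', beq_ne] at hcom
    exact ⟨hcom.1.2, hcom.2⟩
  have labA : ∀ i < 64, lab B aOne i = pt B aOne co1 (co1 (aOne.getD i 0)) ∧
      co1 (aOne.getD i 0) < 64 := fun i hi =>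
    ⟨(pt_co B hcA (getD_mem64 hcA.block.len hi)).symm, hcA.lt _ (getD_mem64 hcA.block.len hi)⟩
  have labB : ∀ i < 64, lab B aTwo i = pt B aTwo co2 (co2 (aTwo.getD i 0)) ∧
      co2 (aTwo.getD i 0) < 64 := fun i hi =>
    ⟨(pt_co B hcB (getD_mem64 hcB.block.len hi)).symm, hcB.lt _ (getD_mem64 hcB.block.len hi)⟩
  obtain ⟨g, hgK, hgc⟩ := CA.real _ (linOK_sound hfA)
  have hactA : ∀ i, i < 64 → g * lab B aOne i * g⁻¹ = lab B aOne ((S.pA S.out).getD i 64) := by
    intro i hi
    obtain ⟨⟨⟨⟨⟨hp64, -⟩, hco⟩, -⟩, -⟩, -⟩ := htab i hi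
    rw [(labA i hi).1, hgc _ (labA i hi).2, (labA _ hp64).1, hco]
  have hLA := locA B CA.disj
  have hAffA : Aff (lab B aOne) CA.K g fun i => (S.pA S.out).getD i 64 := by
    refine aff_outer hLA.toLab (List.all_eq_true.2 fun i hi => ?_) hgK hactA
    rw [Nat.ble_eq]
    exact (htab i (List.mem_range.1 hi)).1.1.1.1.1
  have haff1 : ∀ l, l < 7 → l ≠ S.skipOne →
      Aff (lab B aOne) CA.K (S.el B g l) fun i => (S.pA l).getD i 64 := by
    intro l hl hs
    by_cases ho : l = S.out
    · subst ho; rw [Spec.el, if_pos rfl]; exact hAffA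
    · rw [Spec.el, if_neg ho]
      exact aff_code B hcA.block ((S.ok_letter hS hl ho).2.2.1 hs) (CA.mem l hl)
  have wordA : ∀ w : List ℕ, (∀ l ∈ w, common S l = true) → wordOk S.pA w = true →
      evalW (S.el B g) w = 1 := by
    intro w hw hok
    refine hLA.word_eq_one (fun l hl => ?_) hok
    have := hw l hl
    simp only [common, Bool.and_eq_true, Bool.not_eq_true', beq_ne, Nat.blt_eq] at this
    exact haff1 l this.1.1 this.1.2
  have hgg : g * g = 1 := by
    have := wordA [S.out, S.out] (fun l hl => by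
      have : l = S.out := by simpa using hl
      exact this ▸ hcom) hsqw
    simpa [evalW, Spec.el] using this
  have hgi : g⁻¹ = g := inv_eq_of_mul_eq_one_right hgg
  have hcode : ∀ l, common S l = true → l ≠ S.out →
      Gd (S.c l) ∧ S.el B g l = B.lf (S.c l) := by
    intro l hl ho
    simp only [common, Bool.and_eq_true, Nat.blt_eq] at hl
    exact ⟨(S.ok_letter hS hl.1.1 ho).1, by rw [Spec.el, if_neg ho]⟩
  have hunit : ∀ k < 6, g * lab B aTwo (2 ^ k) * g⁻¹ = lab B aTwo (D.fl.getD (2 ^ k) 0) := by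
    intro k hk
    obtain ⟨⟨⟨hl, hok⟩, hu⟩, hv⟩ := hww k hk
    have hk64 : 2 ^ k < 64 := lt_of_lt_of_eq (Nat.pow_lt_pow_right (by norm_num) hk) (by norm_num)
    have hf64 : D.fl.getD (2 ^ k) 0 < 64 := (htab _ hk64).1.1.1.1.2
    set u := (D.ww.getD k ([], [])).1
    set v := (D.ww.getD k ([], [])).2.reverse
    have hl' : ∀ l ∈ u ++ v, common S l = true ∧ l ≠ S.out := fun l hm => by
      have := hl l hm
      rw [Bool.not_eq_true', beq_ne] at this
      exact this
    have h1 := wordA (S.out :: u ++ S.out :: v) (fun l hm => by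
      simp only [List.mem_append, List.mem_cons] at hm
      rcases hm with (rfl | hm) | (rfl | hm)
      · exact hcom
      · exact (hl' l (List.mem_append_left _ hm)).1
      · exact hcom
      · exact (hl' l (List.mem_append_right _ hm)).1) hok
    have eu := (eval_lf B u fun l hm =>
      hcode l (hl' l (List.mem_append_left _ hm)).1 (hl' l (List.mem_append_left _ hm)).2).2
    have evv := (eval_lf B v fun l hm =>
      hcode l (hl' l (List.mem_append_right _ hm)).1 (hl' l (List.mem_append_right _ hm)).2).2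
    rw [hu] at eu
    rw [hv] at evv
    rw [evalW_cons_append, eu, evv, Spec.el, if_pos rfl] at h1
    rw [hgi, lab, lab, eq_inv_of_mul_eq_one_left h1]
    exact (locB B CB.disj).toLab.inv hf64
  have hLB := locB B CB.disj
  have hflt : ∀ i < 64, D.fl.getD i 0 < 64 := fun i hi => (htab i hi).1.1.1.1.2
  have hfadd : ∀ i < 64, ∀ j < 64, D.fl.getD (i ^^^ j) 0 = D.fl.getD i 0 ^^^ D.fl.getD j 0 :=
    fun i hi j hj => (htab i hi).2 j hj
  have hall : ∀ i < 64, g * lab B aTwo i * g⁻¹ = lab B aTwo (D.fl.getD i 0) := by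
    let P : ℕ → Prop := fun i => i < 64 ∧ g * lab B aTwo i * g⁻¹ = lab B aTwo (D.fl.getD i 0)
    have P0 : P 0 := by
      refine ⟨by norm_num, ?_⟩
      have h0 := hfadd 0 (by norm_num) 0 (by norm_num)
      simp only [Nat.xor_self] at h0
      rw [h0, hLB.toLab.zero]; group
    have Pxor : ∀ a b, P a → P b → P (a ^^^ b) := fun a b ha hb => by
      refine ⟨xor_lt ha.1 hb.1, ?_⟩
      rw [hfadd a ha.1 b hb.1, ← hLB.toLab.mul a ha.1 b hb.1,
        ← hLB.toLab.mul _ (hflt a ha.1) _ (hflt b hb.1), ← ha.2, ← hb.2]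
      group
    have Psel : ∀ (c : Bool) (k : ℕ), k < 6 → P (sel c (2 ^ k)) := fun c k hk => by
      cases c
      · exact P0
      · exact ⟨lt_of_lt_of_eq (Nat.pow_lt_pow_right (by norm_num) hk) (by norm_num), hunit k hk⟩
    intro i hi
    have : P (lin [1, 2, 4, 8, 16, 32] i) :=
      Pxor _ _ (Psel _ 0 (by norm_num)) (Pxor _ _ (Psel _ 1 (by norm_num)) (Pxor _ _
        (Psel _ 2 (by norm_num)) (Pxor _ _ (Psel _ 3 (by norm_num)) (Pxor _ _
          (Psel _ 4 (by norm_num)) (Psel _ 5 (by norm_num))))))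
    rw [lin_units i hi] at this
    exact this.2
  obtain ⟨k, hkK, hkc⟩ := CB.real _ (linOK_sound hfB)
  have hkl : ∀ i < 64, k * lab B aTwo i * k⁻¹ = lab B aTwo (D.fl.getD i 0) := by
    intro i hi
    obtain ⟨⟨⟨⟨⟨-, hf64⟩, -⟩, hco⟩, -⟩, -⟩ := htab i hi
    rw [(labB i hi).1, hkc _ (labB i hi).2, (labB _ hf64).1, hco]
  obtain ⟨b, hb, hbg⟩ := hLB.cent (g * k⁻¹) (fun j hj => by
    have hsur : ∃ i < 64, D.fl.getD i 0 = j := by
      let F : Fin 64 → Fin 64 := fun i => ⟨D.fl.getD i 0, hflt i i.2⟩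
      have hF : Function.Injective F := fun i i' hii => by
        refine Fin.ext (hLB.toLab.inj i i.2 i' i'.2 ?_)
        have h1 := hkl i i.2
        have h2 := hkl i' i'.2
        rw [show D.fl.getD i 0 = D.fl.getD i' 0 from congrArg Fin.val hii, ← h2] at h1
        exact mul_left_cancel (mul_right_cancel h1)
      obtain ⟨i, hij⟩ := (Finite.injective_iff_surjective.1 hF) ⟨j, hj⟩
      exact ⟨i, i.2, congrArg Fin.val hij⟩
    obtain ⟨i, hi, hij⟩ := hsur
    subst hij
    calc g * k⁻¹ * lab B aTwo (D.fl.getD i 0)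
        = g * k⁻¹ * (k * lab B aTwo i * k⁻¹) := by rw [hkl i hi]
      _ = (g * lab B aTwo i * g⁻¹) * (g * k⁻¹) := by group
      _ = lab B aTwo (D.fl.getD i 0) * (g * k⁻¹) := by rw [hall i hi])
  have hg : g = lab B aTwo b * k := by rw [hbg, inv_mul_cancel_right]
  have affG : ∀ (K : Subgroup G) (k' : G) (b' : ℕ), k' ∈ K → b' < 64 → g = lab B aTwo b' * k' →
      (∀ i < 64, k' * lab B aTwo i * k'⁻¹ = lab B aTwo (D.fl.getD i 0)) → ∀ p : List ℕ,
      (∀ i < 64, p.getD i 64 = b' ^^^ D.fl.getD i 0) →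
      Aff (lab B aTwo) K g fun i => p.getD i 64 := by
    intro K k' b' hk' hb' e hc p hp'
    refine ⟨b', hb', k', hk', e, fun i hi => ?_, fun i hi => ?_⟩
    · show p.getD i 64 < 64
      rw [hp' i hi]; exact xor_lt hb' (hflt i hi)
    · show _ = lab B aTwo (b' ^^^ p.getD i 64)
      rw [hp' i hi, xor_cancel_left', hc i hi]
  have hpass : (D.sel.all fun w => wordOk (D.tab S b) w) = true := by
    rw [List.all_eq_true]
    intro w hw
    obtain ⟨hwl, hwok⟩ := hsel w hw
    have h1 := wordA w hwl hwok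
    have h2 := hLB.toLab.aff_word (e := S.el B g) (P := D.tab S b) (w := w) fun l hl => by
      have hl' := hwl l hl
      by_cases ho : l = S.out
      · subst ho
        rw [Spec.el, if_pos rfl]
        refine affG CB.K k b hkK hb hg hkl _ fun i hi => ?_
        simp [OData.tab, List.getD_eq_getElem?_getD, hi]
      · simp only [common, Bool.and_eq_true, Bool.not_eq_true', beq_ne, Nat.blt_eq] at hl'
        rw [Spec.el, if_neg ho]
        simp only [OData.tab, if_neg ho]
        exact aff_code B hcB.block ((S.ok_letter hS hl'.1.1 ho).2.2.2 hl'.2) (CB.mem l hl'.1.1)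
    rw [h1] at h2
    exact List.all_eq_true.2 fun i hi =>
      Nat.beq_eq ▸ hLB.toLab.aff_eq_id h2 i (List.mem_range.1 hi)
  have hcase := List.all_eq_true.1 hp b (List.mem_range.2 hb)
  rw [hpass] at hcase
  simp only [Bool.not_true, Bool.false_or, Bool.or_eq_true, Nat.beq_eq] at hcase
  have hpB : ∀ i < 64, (S.pB S.out).getD i 64 = D.b0 ^^^ D.fl.getD i 0 :=
    fun i hi => (htab i hi).1.2
  rcases hcase with rfl | rfl
  · exact ⟨g, ⟨⟨CA.K, CB.K, CA.disj, CB.disj, CA.mem, CB.mem, hAffA,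
      affG _ k _ hkK hb0 hg hkl _ hpB⟩⟩⟩
  · have hlz : lab B aTwo D.e = B.z := by rw [lab, hez, B.lf_z]
    have hzi : (lab B aTwo D.e)⁻¹ = lab B aTwo D.e := hLB.toLab.inv he
    have hcomm : ∀ i < 64, lab B aTwo D.e * lab B aTwo i * (lab B aTwo D.e)⁻¹ = lab B aTwo i := by
      intro i hi
      rw [hzi, hLB.toLab.mul _ he _ hi, hLB.toLab.mul _ (xor_lt he hi) _ he]
      congr 1
      rw [Nat.xor_comm D.e i, Nat.xor_assoc, Nat.xor_self, Nat.xor_zero]
    set z := lab B aTwo D.e with hz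
    set K' := CB.K.map (MulAut.conj z).toMonoidHom with hK'
    have hmem' : ∀ x, x ∈ CB.K → z * x * z⁻¹ ∈ K' := fun x hx => ⟨x, hx, rfl⟩
    have disj' : ∀ a, a < 64 → lab B aTwo a ∈ K' → a = 0 := by
      rintro a ha ⟨x, hx, hxa⟩
      refine CB.disj a ha ?_
      simp only [MulEquiv.toMonoidHom_eq_coe, MonoidHom.coe_coe, MulAut.conj_apply] at hxa
      rw [← hcomm a ha] at hxa
      exact mul_left_cancel (mul_right_cancel hxa) ▸ hx
    have mem' : ∀ l, l < 7 → B.lf (S.dB l).2.1 ∈ K' := by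
      intro l hl
      have := hmem' _ (CB.mem l hl)
      change z * B.lf (S.dB l).2.1 * z⁻¹ ∈ K' at this
      rw [hlz, ← B.lf_comm_z (gd_of_gdB (hdB l hl)), mul_inv_cancel_right] at this
      exact this
    refine ⟨g, ⟨⟨CA.K, K', CA.disj, disj', CA.mem, mem', hAffA,
      affG K' (z * k * z⁻¹) D.b0 (hmem' k hkK) hb0 ?_ (fun i hi => ?_) _ hpB⟩⟩⟩
    · rw [hg, ← hLB.toLab.mul _ hb0 _ (xor_lt he (hflt _ he)),
        ← hLB.toLab.mul _ he _ (hflt _ he), ← hkl _ he, hzi]
      simp only [hz]; group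
    · calc z * k * z⁻¹ * lab B aTwo i * (z * k * z⁻¹)⁻¹
          = z * (k * (z⁻¹ * lab B aTwo i * z⁻¹⁻¹) * k⁻¹) * z⁻¹ := by group
        _ = lab B aTwo (D.fl.getD i 0) := by
          simp only [inv_inv, hzi]
          have h2 : ∀ j < 64, z * lab B aTwo j * z = lab B aTwo j := fun j hj => by
            conv_lhs => arg 2; rw [← hzi]
            exact hcomm j hj
          rw [h2 i hi, hkl i hi, h2 _ (hflt i hi)]

end Cfsg.Agent.H67.Held
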