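import Cfsg.Agent.H98.Held.Classify
import Cfsg.Agent.H67.Held.Lift

/-!
The hypotheses of the lifting for a block from finite checks.
-/

set_option autoImplicit false

namespace Cfsg.Agent.H67.Held

open Subgroup Cfsg.Agent.H98.Held

attribute [local irreducible] mm oneC zT cls

/-- a code normalising the block and inducing the table -/
noncomputable def witOK (L : List ℕ) (co : ℕ → ℕ) (T : List ℕ) (e : ℕ × ℕ) : Bool :=
  gdB e.1 e.2 && gdB e.2 e.1 && L.all fun a =>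
    (L.any fun b => Nat.beq b (cjC e.1 e.2 a)) && Nat.beq (co (cjC e.1 e.2 a)) (T.getD (co a) 0)

/-- witnesses for all tables -/
noncomputable def witsOK (L : List ℕ) (co : ℕ → ℕ) (stab : List (List ℕ)) (W : List (ℕ × ℕ)) : Bool :=
  Nat.beq stab.length W.length && (stab.zip W).all fun e => witOK L co e.1 e.2

/-- the codes of `Z` are the classes of the mask -/
noncomputable def zOK (L : List ℕ) (co : ℕ → ℕ) (Z : List ℕ) (m : ℕ) : Bool :=
  (L.all fun a => Z.contains (co a) == (!(Nat.beq a oneC) && inK m (cls a))) &&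
    Z.all fun x => Nat.blt x 64

universe u

variable {G : Type u} [Group G] [Finite G] (B : Emb G) {L : List ℕ} {co : ℕ → ℕ}
  {Z : List ℕ}

theorem wit_act (hC : Coord L co) {T : List ℕ} {e : ℕ × ℕ} (h : witOK L co T e = true) :
    B.lf e.1 ∈ normalizer (B.blockGrp L : Set G) ∧
      ∀ x < 64, act B L co (B.lf e.1) x = T.getD x 0 := by
  simp only [witOK, Bool.and_eq_true, List.all_eq_true, Nat.beq_eq] at h
  obtain ⟨⟨hp, hq⟩, hall⟩ := h
  have hpg := gd_of_gdB hp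
  have hqg := gd_of_gdB hq
  have hpq : mm e.1 e.2 = oneC := by
    simp only [gdB, Bool.and_eq_true, Nat.beq_eq] at hp; exact hp.1.2
  have hconj : ∀ a ∈ L, cjC e.1 e.2 a ∈ L ∧ co (cjC e.1 e.2 a) = T.getD (co a) 0 ∧
      B.lf (cjC e.1 e.2 a) = B.lf e.1 * B.lf a * (B.lf e.1)⁻¹ := fun a ha =>
    ⟨mem_of_any (hall a ha).1, (hall a ha).2, B.lf_cj hpg hqg hpq (hC.block.sq a ha).1⟩
  have hN : B.lf e.1 ∈ normalizer (B.blockGrp L : Set G) := by
    refine mem_normalizer_fintype fun y hy => ?_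
    obtain ⟨a, ha, rfl⟩ := (B.mem_blockGrp hC.block).1 hy
    exact (B.mem_blockGrp hC.block).2 ⟨_, (hconj a ha).1, (hconj a ha).2.2⟩
  refine ⟨hN, fun x hx => ?_⟩
  obtain ⟨a, ha, rfl⟩ := hC.surj x hx
  obtain ⟨h1, h2, h3⟩ := hconj a ha
  rw [← h2, act_eq B hC hN (hC.lt a ha) (hC.lt _ h1), pt_co B hC ha, pt_co B hC h1, h3]

theorem memZ_of_check (hC : Coord L co) {m : ℕ} (hm : ∀ k < 8, B.IsZ (rep k) ↔ inK m k = true)
    (h : zOK L co Z m = true) : ∀ x, x ∈ Z ↔ x < 64 ∧ IsConj B.z (pt B L co x) := by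
  simp only [zOK, Bool.and_eq_true, List.all_eq_true, beq_iff_eq, Nat.blt_eq] at h
  obtain ⟨h1, h2⟩ := h
  intro x
  by_cases hx : x < 64
  swap
  · exact ⟨fun e => absurd (h2 x e) hx, fun e => absurd e.1 hx⟩
  obtain ⟨a, ha, rfl⟩ := hC.surj x hx
  rw [pt_co B hC ha, ← List.contains_iff_mem, h1 a ha, Bool.and_eq_true, Bool.not_eq_true',
    beq_ne, and_iff_right hx]
  obtain ⟨hg, hs⟩ := hC.block.sq a ha
  refine ⟨fun e => (B.isZ_iff hg hs e.1).2 ((hm _ (cls_lt hg hs e.1)).2 e.2), fun e => ?_⟩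
  have hne : a ≠ oneC := fun he => B.z_ne (isConj_one_left.1 (by rwa [he, B.lf_one] at e))
  exact ⟨hne, (hm _ (cls_lt hg hs hne)).1 ((B.isZ_iff hg hs hne).1 e)⟩

theorem setup_of_check (hC : Coord L co)
    (hcent : centralizer (B.blockGrp L : Set G) = B.blockGrp L)
    (horb : ∀ x ∈ B.blockGrp L, IsConj B.z x →
      ∃ h ∈ normalizer (B.blockGrp L : Set G), h * B.z * h⁻¹ = x)
    {m : ℕ} (hm : ∀ k < 8, B.IsZ (rep k) ↔ inK m k = true) (hz : zOK L co Z m = true)
    (hd : LinAut Z dMap) (hn : ∀ f, LinAut Z f → NormalisesD f) {stab : List (List ℕ)}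
    (hstab : ∀ f, LinAut Z f → f 1 = 1 → (List.range 64).map f ∈ stab) {W : List (ℕ × ℕ)}
    (hW : witsOK L co stab W = true) : Setup B L co Z := by
  have hZ := memZ_of_check B hC hm hz
  refine ⟨hC, hcent, hZ, fun f hf => ?_, hd, hn⟩
  have h1Z : 1 ∈ Z := (hZ 1).2 ⟨by norm_num, by rw [pt_one B hC]⟩
  obtain ⟨hf1, hconj⟩ := (hZ _).1 (hf.mem 1 h1Z)
  obtain ⟨h, hh, he⟩ := horb _ (pt_mem B hC hf1) hconj
  have hh1 : act B L co h 1 = f 1 := by
    rw [act_eq B hC hh (by norm_num) hf1, pt_one B hC]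
    exact he
  have hlin := linAut_act B hC hZ (inv_mem hh)
  have hg := hlin.comp hf
  have hg1 : (act B L co h⁻¹ ∘ f) 1 = 1 := by
    rw [Function.comp_apply, ← hh1]
    exact (act_inv_act B hC hh (by norm_num)).1
  obtain ⟨i, hi, hT⟩ := List.getElem_of_mem (hstab _ hg hg1)
  simp only [witsOK, Bool.and_eq_true, Nat.beq_eq, List.all_eq_true] at hW
  have hiW : i < W.length := hW.1 ▸ hi
  have hiz : i < (stab.zip W).length := by rw [List.length_zip]; omega
  have hw := hW.2 _ (List.getElem_mem hiz)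
  rw [List.getElem_zip, hT] at hw
  obtain ⟨hp, hpa⟩ := wit_act B hC hw
  refine ⟨h * B.lf W[i].1, mul_mem hh hp, fun x hx => ?_⟩
  rw [act_mul B hC hh hp hx, hpa x hx]
  simp only [List.getD_eq_getElem?_getD, List.getElem?_map, List.getElem?_range hx,
    Option.map_some, Option.getD_some, Function.comp_apply]
  exact (act_inv_act B hC hh (hf.lt x hx)).2

end Cfsg.Agent.H67.Held
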