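import Cfsg.Agent.H67.Held.Real
import Cfsg.Agent.H67.Held.StabT45
import Cfsg.Agent.H67.Held.Coord

/-!
Codes inducing the automorphisms of `Z45` fixing the transvection on `aOne`.
-/

set_option autoImplicit false
set_option maxRecDepth 100000

namespace Cfsg.Agent.H67.Held

open Cfsg.Agent.H98.Held

/-- the witnesses, with inverses -/
def witA45 : List (ℕ × ℕ) := [
  (17043521, 17043521), (17043525, 17043525), (19140673, 19140673), (19140677, 19140677),
  (25432129, 25432129), (25432133, 25432133), (27529281, 27529281), (27529285, 27529285),
  (17109057, 17109057), (17109061, 17109061), (19206209, 19206209), (19206213, 19206213),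
  (27594817, 25497665), (27594821, 25497669), (25497665, 27594817), (25497669, 27594821),
  (8917057, 8917057), (8917061, 8917061), (8982593, 11014209), (8982597, 11014213),
  (9179201, 25694273), (9179205, 25694277), (9244737, 27791425), (9244741, 27791429),
  (11014209, 8982593), (11014213, 8982597), (11079745, 11079745), (11079749, 11079749),
  (11341889, 25759809), (11341893, 25759813), (11276353, 27856961), (11276357, 27856965),
  (25694273, 9179201), (25694277, 9179205), (27856961, 11276353), (27856965, 11276357),
  (17567809, 17567809), (17567813, 17567813), (19730497, 19664961), (19730501, 19664965),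
  (27791425, 9244737), (27791429, 9244741), (25759809, 11341889), (25759813, 11341893),
  (17633345, 17633345), (17633349, 17633349), (19664961, 19730497), (19664965, 19730501)]

theorem witA45_check : witsOK aOne co1 stabT45 witA45 = true := by decide +kernel

end Cfsg.Agent.H67.Held
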