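import Cfsg.Agent.H67.Held.Real
import Cfsg.Agent.H67.Held.StabT45
import Cfsg.Agent.H67.Held.Coord

/-!
Codes inducing the automorphisms of `Z45` fixing the transvection on `aTwo`.
-/

set_option autoImplicit false
set_option maxRecDepth 100000

namespace Cfsg.Agent.H67.Held

open Cfsg.Agent.H98.Held

/-- the witnesses, with inverses -/
def witB45 : List (ℕ × ℕ) := [
  (17043521, 17043521), (19140673, 19140673), (17043529, 17043529), (19140681, 19140681),
  (17051713, 17051713), (19148865, 19148865), (17051721, 17051721), (19148873, 19148873),
  (17043525, 17043525), (19140677, 19140677), (17043533, 17043533), (19140685, 19140685),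
  (17051717, 17051725), (19148869, 19148877), (17051725, 17051717), (19148877, 19148869),
  (16916545, 16916545), (19013697, 19013697), (16916553, 16916549), (19013705, 19013701),
  (17178689, 16920641), (19275841, 19017793), (17178697, 16920645), (19275849, 19017797),
  (16916549, 16916553), (19013701, 19013705), (16916557, 16916557), (19013709, 19013709),
  (17178693, 16920653), (19275845, 19017805), (17178701, 16920649), (19275853, 19017801),
  (16920641, 17178689), (19017793, 19275841), (16920649, 17178701), (19017801, 19275853),
  (17174593, 17174593), (19271745, 19271745), (17174601, 17174605), (19271753, 19271757),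
  (16920645, 17178697), (19017797, 19275849), (16920653, 17178693), (19017805, 19275845),
  (17174597, 17174597), (19271749, 19271749), (17174605, 17174601), (19271757, 19271753)]

theorem witB45_check : witsOK aTwo co2 stabT45 witB45 = true := by decide +kernel

end Cfsg.Agent.H67.Held
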