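import Cfsg.Agent.H67.Held.WitA21
import Cfsg.Agent.H67.Held.WitA45
import Cfsg.Agent.H67.Held.WitB21
import Cfsg.Agent.H67.Held.WitB45

/-!
The normalisers of the two groups of order 64 in the four configurations with transitive fusion.
-/

set_option autoImplicit false
set_option maxRecDepth 100000

namespace Cfsg.Agent.H67.Held

open Subgroup Cfsg.Agent.H98.Held

theorem coord1 : Coord aOne co1 := Coord.of_check block_one.1 co1_hom co1_bij

theorem coord2 : Coord aTwo co2 := Coord.of_check block_two.1 co2_hom co2_bij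

theorem dAut21 : LinAut Z21 dMap :=
  ⟨fun x hx => (dMap_facts x hx).1, dMap_add, fun x hx y hy e => by
    rw [← (dMap_facts x hx).2.1, e, (dMap_facts y hy).2.1],
    fun x hx => (dMap_facts x (Z_small.1 x hx)).2.2.2.1 hx⟩

theorem dAut45 : LinAut Z45 dMap :=
  ⟨fun x hx => (dMap_facts x hx).1, dMap_add, fun x hx y hy e => by
    rw [← (dMap_facts x hx).2.1, e, (dMap_facts y hy).2.1],
    fun x hx => (dMap_facts x (Z_small.2 x hx)).2.2.2.2 hx⟩

theorem zA_7 : zOK aOne co1 Z21 7 = true := by decide +kernel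

theorem zB_7 : zOK aTwo co2 Z21 7 = true := by decide +kernel

theorem zA_15 : zOK aOne co1 Z45 15 = true := by decide +kernel

theorem zB_15 : zOK aTwo co2 Z21 15 = true := by decide +kernel

theorem zA_23 : zOK aOne co1 Z21 23 = true := by decide +kernel

theorem zB_23 : zOK aTwo co2 Z45 23 = true := by decide +kernel

theorem zA_31 : zOK aOne co1 Z45 31 = true := by decide +kernel

theorem zB_31 : zOK aTwo co2 Z45 31 = true := by decide +kernel

universe u

variable {G : Type u} [Group G] [Finite G] {B : Emb G}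

theorem setupA_7 (hm : ∀ k < 8, B.IsZ (rep k) ↔ inK 7 k = true) :
    Setup B aOne co1 Z21 :=
  setup_of_check B coord1 B.cent_gA (fun _ hx hc => B.orbit_gA hx hc) hm zA_7 dAut21
    (fun _ => normalisesD21) (fun _ => mem_stabT21) witA21_check

theorem setupB_7 (hm : ∀ k < 8, B.IsZ (rep k) ↔ inK 7 k = true) :
    Setup B aTwo co2 Z21 :=
  setup_of_check B coord2 B.cent_gB (fun _ hx hc => B.orbit_gB hx hc) hm zB_7 dAut21
    (fun _ => normalisesD21) (fun _ => mem_stabT21) witB21_check

theorem setupA_15 (hm : ∀ k < 8, B.IsZ (rep k) ↔ inK 15 k = true) :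
    Setup B aOne co1 Z45 :=
  setup_of_check B coord1 B.cent_gA (fun _ hx hc => B.orbit_gA hx hc) hm zA_15 dAut45
    (fun _ => normalisesD45) (fun _ => mem_stabT45) witA45_check

theorem setupB_15 (hm : ∀ k < 8, B.IsZ (rep k) ↔ inK 15 k = true) :
    Setup B aTwo co2 Z21 :=
  setup_of_check B coord2 B.cent_gB (fun _ hx hc => B.orbit_gB hx hc) hm zB_15 dAut21
    (fun _ => normalisesD21) (fun _ => mem_stabT21) witB21_check

theorem setupA_23 (hm : ∀ k < 8, B.IsZ (rep k) ↔ inK 23 k = true) :
    Setup B aOne co1 Z21 :=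
  setup_of_check B coord1 B.cent_gA (fun _ hx hc => B.orbit_gA hx hc) hm zA_23 dAut21
    (fun _ => normalisesD21) (fun _ => mem_stabT21) witA21_check

theorem setupB_23 (hm : ∀ k < 8, B.IsZ (rep k) ↔ inK 23 k = true) :
    Setup B aTwo co2 Z45 :=
  setup_of_check B coord2 B.cent_gB (fun _ hx hc => B.orbit_gB hx hc) hm zB_23 dAut45
    (fun _ => normalisesD45) (fun _ => mem_stabT45) witB45_check

theorem setupA_31 (hm : ∀ k < 8, B.IsZ (rep k) ↔ inK 31 k = true) :
    Setup B aOne co1 Z45 :=
  setup_of_check B coord1 B.cent_gA (fun _ hx hc => B.orbit_gA hx hc) hm zA_31 dAut45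
    (fun _ => normalisesD45) (fun _ => mem_stabT45) witA45_check

theorem setupB_31 (hm : ∀ k < 8, B.IsZ (rep k) ↔ inK 31 k = true) :
    Setup B aTwo co2 Z45 :=
  setup_of_check B coord2 B.cent_gB (fun _ hx hc => B.orbit_gB hx hc) hm zB_31 dAut45
    (fun _ => normalisesD45) (fun _ => mem_stabT45) witB45_check

end Cfsg.Agent.H67.Held
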