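import Cfsg.Agent.H67.Held.DMap

/-!
The stabiliser of the orbit of length 45.
-/

set_option autoImplicit false
set_option maxRecDepth 100000

namespace Cfsg.Agent.H67.Held

/-- the tables of the automorphisms of `Z45` fixing `1` -/
def stab45 : List (List ℕ) := (level Z45 5).map fun s => (List.range 64).map (get s)

theorem stab45_check : (Nat.beq stab45.length 48 && stab45.all normD) = true := by decide +kernel

theorem tr45_check : (tr45.all (linOK Z45) && (tr45.map (fun t => lin t 1) == Z45) &&
    tr45.all fun t => normD ((List.range 64).map (lin t))) = true := by decide +kernel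

theorem mem_stab45 {f : ℕ → ℕ} (hf : LinAut Z45 f) (h1 : f 1 = 1) :
    (List.range 64).map f ∈ stab45 :=
  List.mem_map.2 ⟨_, level_spec Z_small.2 hf h1 Z_units.2 5 (by norm_num),
    List.map_congr_left fun d hd => get_pack
      (fun e he => (hf.lt e he).trans (by norm_num)) (List.mem_range.1 hd)⟩

/-- the stabiliser of `1` has at most 48 elements -/
theorem stab45_length : stab45.length = 48 := by
  have h := stab45_check
  simp only [Bool.and_eq_true, Nat.beq_eq] at h
  exact h.1

theorem normalisesD45 {f : ℕ → ℕ} (hf : LinAut Z45 f) : NormalisesD f := by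
  have h := tr45_check; have h' := stab45_check
  simp only [Bool.and_eq_true, beq_iff_eq] at h h'
  exact normalisesD_of_stab Z_small.2 (by decide) tr45 h.1.1 h.1.2 h.2
    (fun g hg h1 => normalisesD_of_table (List.all_eq_true.1 h'.2 _ (mem_stab45 hg h1))) hf

theorem transitive45 : ∀ v ∈ Z45, ∃ f, LinAut Z45 f ∧ f 1 = v := by
  intro v hv
  have h := tr45_check
  simp only [Bool.and_eq_true, beq_iff_eq] at h
  rw [← h.1.2] at hv
  obtain ⟨t, ht, rfl⟩ := List.mem_map.1 hv
  exact ⟨_, linOK_sound (List.all_eq_true.1 h.1.1 t ht), rfl⟩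

end Cfsg.Agent.H67.Held
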